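import Cfsg.Agent.Lib.Lead.AltEightSimple

/-!
# No simple subgroup of order 1344 in the symmetric group of degree eight
-/

set_option autoImplicit false
set_option maxRecDepth 100000

namespace Cfsg.Agent.Lie.ConstrainedRank

open Equiv Subgroup

local notation "P8" => Equiv.Perm (Fin 8)

/-- Translation by the first basis vector. -/
def e1 : P8 := swap 0 1 * swap 2 3 * swap 4 5 * swap 6 7
/-- Translation by the second basis vector. -/
def e2 : P8 := swap 0 2 * swap 1 3 * swap 4 6 * swap 5 7
/-- Translation by the third basis vector. -/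
def e3 : P8 := swap 0 4 * swap 1 5 * swap 2 6 * swap 3 7
/-- A transvection. -/
def u1 : P8 := swap 2 3 * swap 6 7
/-- A transvection. -/
def u2 : P8 := swap 4 6 * swap 5 7
/-- A transvection. -/
def u3 : P8 := swap 4 5 * swap 6 7

/-- Code of a permutation. -/
def code (g : P8) : ℕ :=
  (g 0 : ℕ) + 8 * ((g 1 : ℕ) + 8 * ((g 2 : ℕ) + 8 * ((g 3 : ℕ) + 8 * ((g 4 : ℕ) + 8 * ((g 5 : ℕ) +
    8 * ((g 6 : ℕ) + 8 * (g 7 : ℕ)))))))

theorem code_inj {a b : P8} (h : code a = code b) : a = b := by
  have := (a 0).2; have := (a 1).2; have := (a 2).2; have := (a 3).2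
  have := (a 4).2; have := (a 5).2; have := (a 6).2; have := (a 7).2
  have := (b 0).2; have := (b 1).2; have := (b 2).2; have := (b 3).2
  have := (b 4).2; have := (b 5).2; have := (b 6).2; have := (b 7).2
  simp only [code] at h
  refine Equiv.ext fun i => Fin.ext ?_
  fin_cases i <;> (simp only [Fin.zero_eta, Fin.isValue, Fin.reduceFinMk]; omega)

/-- Composition on codes. -/
def compC (x y : ℕ) : ℕ :=
  let d : ℕ → ℕ := fun j => x / 8 ^ (y / 8 ^ j % 8) % 8
  d 0 + 8 * (d 1 + 8 * (d 2 + 8 * (d 3 + 8 * (d 4 + 8 * (d 5 + 8 * (d 6 + 8 * d 7))))))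

theorem code_digit (g : P8) (i : Fin 8) : code g / 8 ^ (i : ℕ) % 8 = (g i : ℕ) := by
  have := (g 0).2; have := (g 1).2; have := (g 2).2; have := (g 3).2
  have := (g 4).2; have := (g 5).2; have := (g 6).2; have := (g 7).2
  fin_cases i <;> (simp only [code, Fin.zero_eta, Fin.isValue, Fin.reduceFinMk,
    show ((0 : Fin 8) : ℕ) = 0 from rfl, show ((1 : Fin 8) : ℕ) = 1 from rfl,
    show ((2 : Fin 8) : ℕ) = 2 from rfl, show ((3 : Fin 8) : ℕ) = 3 from rfl,
    show ((4 : Fin 8) : ℕ) = 4 from rfl, show ((5 : Fin 8) : ℕ) = 5 from rfl,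
    show ((6 : Fin 8) : ℕ) = 6 from rfl, show ((7 : Fin 8) : ℕ) = 7 from rfl]; omega)

theorem code_mul (g h : P8) : code (g * h) = compC (code g) (code h) := by
  have key : ∀ i : Fin 8, code g / 8 ^ (code h / 8 ^ (i : ℕ) % 8) % 8 = (g (h i) : ℕ) := fun i => by
    rw [code_digit, code_digit]
  have k0 := key 0; have k1 := key 1; have k2 := key 2; have k3 := key 3
  have k4 := key 4; have k5 := key 5; have k6 := key 6; have k7 := key 7
  simp only [compC]
  simp only [show ((0 : Fin 8) : ℕ) = 0 from rfl, show ((1 : Fin 8) : ℕ) = 1 from rfl,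
    show ((2 : Fin 8) : ℕ) = 2 from rfl, show ((3 : Fin 8) : ℕ) = 3 from rfl,
    show ((4 : Fin 8) : ℕ) = 4 from rfl, show ((5 : Fin 8) : ℕ) = 5 from rfl,
    show ((6 : Fin 8) : ℕ) = 6 from rfl, show ((7 : Fin 8) : ℕ) = 7 from rfl] at k0 k1 k2 k3 k4 k5 k6 k7
  rw [k0, k1, k2, k3, k4, k5, k6, k7]
  rfl

/-- The six generators. -/
def gens : List P8 := [e1, e2, e3, u1, u2, u3]

/-- The codes of the Sylow subgroup. -/
def tCodes : List ℕ := [16434824, 14571144, 11789960, 9926280, 14599368, 16405704, 11760840, 9954504, 6852524, 4988844, 2207660, 343980, 5017068, 6823404, 2178540, 372204, 11788826, 9925146, 16433690, 14570010, 9953370, 11759706, 16404570, 14598234, 2206526, 342846, 6851390, 4987710, 371070, 2177406, 6822270, 5015934, 14570689, 16434369, 9925825, 11789505, 16406145, 14599809, 9954945, 11761281, 4988389, 6852069, 343525, 2207205, 6823845, 5017509, 372645, 2178981, 9924691, 11788371, 14569555, 16433235, 11760147, 9953811, 14598675, 16405011, 342391, 2206071, 4987255, 6850935,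 2177847, 371511, 5016375, 6822711]

/-- The codes of the six generators. -/
def genCodes : List ℕ := [14570689, 11788826, 6852524, 14599368, 11789960, 14571144]

theorem gens_codes : gens.map code = genCodes := by decide +kernel

theorem codes_closed : ∀ x ∈ tCodes, ∀ y ∈ tCodes, compC x y ∈ tCodes := by decide +kernel

theorem t_nodup : tCodes.Nodup := by decide +kernel

theorem code_one : code (1 : P8) ∈ tCodes := by decide +kernel

/-- The Sylow subgroup. -/
def sylowT : Subgroup P8 where
  carrier := {g | code g ∈ tCodes}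
  one_mem' := code_one
  mul_mem' := fun {a b} ha hb => by
    show code (a * b) ∈ tCodes
    rw [code_mul]; exact codes_closed _ ha _ hb
  inv_mem' := fun {g} hg => by
    have hpow : ∀ n : ℕ, code (g ^ (n + 1)) ∈ tCodes := fun n => by
      induction n with
      | zero => simpa using hg
      | succ n ih => rw [pow_succ, code_mul]; exact codes_closed _ ih _ hg
    have hpos := orderOf_pos g
    have e : g⁻¹ = g ^ (2 * orderOf g - 1) := by
      refine inv_eq_of_mul_eq_one_right ?_
      rw [← pow_succ', show 2 * orderOf g - 1 + 1 = orderOf g * 2 by omega, pow_mul, pow_orderOf_eq_one,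
        one_pow]
    show code g⁻¹ ∈ tCodes
    rw [e, show 2 * orderOf g - 1 = (2 * orderOf g - 2) + 1 by omega]
    exact hpow _

theorem gen_mem {g : P8} (h : g ∈ gens) : g ∈ sylowT := by
  have h1 : code g ∈ genCodes := gens_codes ▸ List.mem_map_of_mem h
  have h2 : ∀ x ∈ genCodes, x ∈ tCodes := by decide +kernel
  exact h2 _ h1

/-- The product with prescribed exponents. -/
def prodT (b : Fin 6 → Bool) : P8 :=
  (if b 0 then e1 else 1) * (if b 1 then e2 else 1) * (if b 2 then e3 else 1) *
    (if b 3 then u1 else 1) * (if b 4 then u2 else 1) * (if b 5 then u3 else 1)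

theorem codes_form : ∀ x ∈ tCodes, ∃ a b c d e f : Bool, x = compC (compC (compC (compC (compC
      (if a then genCodes.getD 0 0 else 16434824) (if b then genCodes.getD 1 0 else 16434824))
      (if c then genCodes.getD 2 0 else 16434824)) (if d then genCodes.getD 3 0 else 16434824))
      (if e then genCodes.getD 4 0 else 16434824)) (if f then genCodes.getD 5 0 else 16434824) := by
  decide +kernel

theorem normal_form : ∀ x ∈ tCodes, ∃ b : Fin 6 → Bool, x = code (prodT b) := by
  intro x hx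
  obtain ⟨a, b, c, d, e, f, hx⟩ := codes_form x hx
  have h1 : code (1 : P8) = 16434824 := by decide +kernel
  have hcs : code e1 = genCodes.getD 0 0 ∧ code e2 = genCodes.getD 1 0 ∧ code e3 = genCodes.getD 2 0 ∧
      code u1 = genCodes.getD 3 0 ∧ code u2 = genCodes.getD 4 0 ∧ code u3 = genCodes.getD 5 0 := by
    rw [← gens_codes]; exact ⟨rfl, rfl, rfl, rfl, rfl, rfl⟩
  obtain ⟨c1, c2, c3, c4, c5, c6⟩ := hcs
  have hif : ∀ (q : Bool) (y : P8) (n : ℕ), code y = n →
      (if q then n else 16434824) = code (if q then y else 1) := fun q y n hn => by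
    cases q <;> simp [hn, h1]
  rw [hif a e1 _ c1, hif b e2 _ c2, hif c e3 _ c3, hif d u1 _ c4, hif e u2 _ c5, hif f u3 _ c6,
    ← code_mul, ← code_mul, ← code_mul, ← code_mul, ← code_mul] at hx
  exact ⟨![a, b, c, d, e, f], hx⟩

theorem sylowT_le {H : Subgroup P8} (hH : ∀ g ∈ gens, g ∈ H) : sylowT ≤ H := by
  intro g hg
  obtain ⟨b, hb⟩ := normal_form _ hg
  rw [code_inj hb]
  have hm : ∀ (q : Bool) (y : P8), y ∈ gens → (if q then y else 1) ∈ H := fun q y hy => by
    cases q
    · exact one_mem H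
    · exact hH y hy
  exact mul_mem (mul_mem (mul_mem (mul_mem (mul_mem (hm _ e1 (by simp [gens])) (hm _ e2 (by simp [gens])))
    (hm _ e3 (by simp [gens]))) (hm _ u1 (by simp [gens]))) (hm _ u2 (by simp [gens]))) (hm _ u3 (by simp [gens]))

theorem gens_even : ∀ a ∈ gens, Equiv.Perm.sign a = 1 := by
  intro a ha
  simp only [gens, List.mem_cons, List.not_mem_nil, or_false] at ha
  rcases ha with rfl | rfl | rfl | rfl | rfl | rfl <;>
    simp [e1, e2, e3, u1, u2, u3]

theorem exists_code : ∀ x ∈ tCodes, ∃ g : P8, code g = x := fun x hx => by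
  obtain ⟨b, hb⟩ := normal_form x hx
  exact ⟨prodT b, hb.symm⟩

theorem card_sylowT : Nat.card sylowT = 64 := by
  classical
  let f : ↥sylowT → {x // x ∈ tCodes.toFinset} := fun g => ⟨code (g : P8), List.mem_toFinset.2 g.2⟩
  have hf : Function.Bijective f :=
    ⟨fun a b h => Subtype.ext (code_inj (congrArg Subtype.val h)), fun x => by
      obtain ⟨g, hg⟩ := exists_code x.1 (List.mem_toFinset.1 x.2)
      exact ⟨⟨g, show code g ∈ tCodes by rw [hg]; exact List.mem_toFinset.1 x.2⟩, Subtype.ext hg⟩⟩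
  rw [Nat.card_eq_of_bijective f hf, Nat.card_eq_fintype_card, Fintype.card_coe,
    List.toFinset_card_of_nodup t_nodup]
  rfl

/-- The translations. -/
def eOne : List P8 := [1, e1, e2, e1 * e2, e3, e1 * e3, e2 * e3, e1 * e2 * e3]

/-- The other regular normal subgroup. -/
def eTwo : List P8 :=
  [1, e1, e2 * u3, e1 * (e2 * u3), e3 * u1, e1 * (e3 * u1), e2 * u3 * (e3 * u1),
    e1 * (e2 * u3) * (e3 * u1)]

theorem e_in : ∀ a ∈ eOne ++ eTwo, a ∈ sylowT := by
  have h1 : e1 ∈ sylowT := gen_mem (by simp [gens])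
  have h2 : e2 ∈ sylowT := gen_mem (by simp [gens])
  have h3 : e3 ∈ sylowT := gen_mem (by simp [gens])
  have h4 : u1 ∈ sylowT := gen_mem (by simp [gens])
  have h6 : u3 ∈ sylowT := gen_mem (by simp [gens])
  intro a ha
  simp only [eOne, eTwo, List.mem_append, List.mem_cons, List.not_mem_nil, or_false] at ha
  rcases ha with (rfl | rfl | rfl | rfl | rfl | rfl | rfl | rfl) |
    (rfl | rfl | rfl | rfl | rfl | rfl | rfl | rfl) <;>
    repeat' (first | with_reducible assumption | with_reducible exact one_mem _ | with_reducible apply mul_mem)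

theorem e_ne : code e1 ≠ code 1 := by decide +kernel

theorem t_trans (a : Fin 8) : ∃ t ∈ sylowT, t a = 7 := by
  have key : ∀ a : Fin 8, ∃ x ∈ tCodes, x / 8 ^ (a : ℕ) % 8 = 7 := by decide +kernel
  obtain ⟨x, hx, hxa⟩ := key a
  obtain ⟨t, rfl⟩ := exists_code x hx
  exact ⟨t, hx, Fin.ext ((code_digit t a).symm.trans hxa)⟩

theorem e_normal : ∀ E ∈ [eOne, eTwo], ∀ t ∈ gens, ∀ a ∈ E, code (t * a * t⁻¹) ∈ E.map code := by
  intro E hE t ht a ha
  have key : ∀ F ∈ [eOne.map code, eTwo.map code], ∀ x ∈ genCodes, compC x x = 16434824 ∧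
      ∀ y ∈ F, compC (compC x y) x ∈ F := by decide +kernel
  have hF : E.map code ∈ [eOne.map code, eTwo.map code] := by
    rcases List.mem_cons.1 hE with rfl | h
    · simp
    · rw [List.mem_singleton] at h; subst h; simp
  obtain ⟨h1, h2⟩ := key _ hF _ (gens_codes ▸ List.mem_map_of_mem ht)
  have hinv : t⁻¹ = t := inv_eq_of_mul_eq_one_right (code_inj (by
    rw [code_mul, h1]; decide +kernel))
  rw [hinv, code_mul, code_mul]
  exact h2 _ (List.mem_map_of_mem ha)

/-- The candidate seven-cycle `0 ↦ 1 ↦ σ 0 + 2 ↦ ⋯`. -/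
def next (σ : Equiv.Perm (Fin 5)) (x : Fin 8) : Fin 8 :=
  let l : List ℕ := [0, 1, (σ 0 : ℕ) + 2, (σ 1 : ℕ) + 2, (σ 2 : ℕ) + 2, (σ 3 : ℕ) + 2,
    (σ 4 : ℕ) + 2, 0]
  if x = 7 then 7 else Fin.ofNat 8 (l.getD (l.idxOf (x : ℕ) + 1) 0)

/-- Six test elements. -/
def tests : List P8 :=
  [e1 * u1, u1 * u2 * u1 * u2, e3 * u1 * e2, u1 * u2 * e3 * u1 * u2, e3 * u1 * u2 * u1, e3 * u2 * u1]

theorem tests_mem : ∀ t ∈ tests, t ∈ sylowT := by
  have h1 : e1 ∈ sylowT := gen_mem (by simp [gens])
  have h2 : e2 ∈ sylowT := gen_mem (by simp [gens])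
  have h3 : e3 ∈ sylowT := gen_mem (by simp [gens])
  have h4 : u1 ∈ sylowT := gen_mem (by simp [gens])
  have h5 : u2 ∈ sylowT := gen_mem (by simp [gens])
  intro a ha
  simp only [tests, List.mem_cons, List.not_mem_nil, or_false] at ha
  rcases ha with rfl | rfl | rfl | rfl | rfl | rfl <;>
    repeat' (first | with_reducible assumption | with_reducible apply mul_mem)

/-- Every candidate normalises a regular subgroup or produces an element of order five. -/
def candOK (σ : Equiv.Perm (Fin 5)) : Bool :=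
  (eOne.all fun a => eOne.any fun b => (List.finRange 8).all fun x =>
      next σ (a x) == b (next σ x)) ||
  (eTwo.all fun a => eTwo.any fun b => (List.finRange 8).all fun x =>
      next σ (a x) == b (next σ x)) ||
  tests.any fun t => ((List.finRange 8).all fun x => (fun y => next σ (t y))^[15] x == x) &&
    !((List.finRange 8).all fun x => (fun y => next σ (t y))^[3] x == x)

theorem cand_all : ∀ σ : Equiv.Perm (Fin 5), candOK σ = true := by decide +kernel

theorem seven_shape {g : P8} (hg : orderOf g = 7) :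
    ∃ a, g a = a ∧ ∀ x y, g x ≠ x → g y ≠ y → ∃ i < 7, (g ^ i) x = y := by
  have hcyc : g.IsCycle := Equiv.Perm.isCycle_of_prime_order (by rw [hg]; norm_num)
    (by rw [hg]; exact lt_of_le_of_lt (Finset.card_le_univ _) (by simp))
  have hs : g.support.card = 7 := by rw [← hcyc.orderOf, hg]
  obtain ⟨a, ha⟩ : ∃ a, a ∉ g.support := by
    by_contra h
    push Not at h
    rw [Finset.eq_univ_of_forall h] at hs
    simp at hs
  refine ⟨a, Equiv.Perm.notMem_support.1 ha, fun x y hx hy => ?_⟩
  obtain ⟨i, hi⟩ := hcyc.exists_pow_eq hx hy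
  exact ⟨i % 7, Nat.mod_lt _ (by norm_num), by rw [← hg, pow_mod_orderOf]; exact hi⟩

theorem exists_sigma {g : P8} (hg : orderOf g = 7) (h7 : g 7 = 7) (h0 : g 0 = 1) :
    ∃ σ, ∀ x, g x = next σ x := by
  obtain ⟨a, ha, hcyc⟩ := seven_shape hg
  have ha7 : a = 7 := by
    by_contra hne
    have hs : g.support.card = 7 := by
      have hcy : g.IsCycle := Equiv.Perm.isCycle_of_prime_order (by rw [hg]; norm_num)
        (by rw [hg]; exact lt_of_le_of_lt (Finset.card_le_univ _) (by simp))
      rw [← hcy.orderOf, hg]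
    have hsub : g.support ⊆ (Finset.univ.erase a).erase 7 := fun x hx => by
      rw [Equiv.Perm.mem_support] at hx
      simp only [Finset.mem_erase, Finset.mem_univ, and_true]
      exact ⟨fun e => hx (e ▸ h7), fun e => hx (e ▸ ha)⟩
    have := Finset.card_le_card hsub
    rw [hs, Finset.card_erase_of_mem (by simpa using Ne.symm hne),
      Finset.card_erase_of_mem (Finset.mem_univ _)] at this
    simp at this
  subst ha7
  have hmoved : ∀ i : ℕ, g ((g ^ i) 0) ≠ (g ^ i) 0 := fun i e => by
    rw [← Equiv.Perm.mul_apply, ← pow_succ', pow_succ, Equiv.Perm.mul_apply, h0] at e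
    exact absurd ((g ^ i).injective e) (by decide)
  have hinj : ∀ i j, i < 7 → j < 7 → (g ^ i) 0 = (g ^ j) 0 → i = j := by
    have key : ∀ i j, i ≤ j → j < 7 → (g ^ i) 0 = (g ^ j) 0 → i = j := by
      intro i j hij hj e
      obtain ⟨d, rfl⟩ := Nat.exists_eq_add_of_le hij
      rw [pow_add, Equiv.Perm.mul_apply] at e
      have hfix : (g ^ d) 0 = 0 := ((g ^ i).injective e).symm
      by_contra hne
      have hd : Nat.Coprime d 7 := by
        refine ((Nat.Prime.coprime_iff_not_dvd (by norm_num)).2 fun h => ?_).symm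
        have := Nat.le_of_dvd (by omega) h
        omega
      obtain ⟨m, hm⟩ := exists_pow_eq_self_of_coprime (hg.symm ▸ hd : d.Coprime (orderOf g))
      have : g 0 = 0 := by
        conv_lhs => rw [← hm]
        exact Function.IsFixedPt.perm_pow hfix m
      rw [h0] at this
      exact absurd this (by decide)
    intro i j hi hj e
    rcases le_total i j with h | h
    · exact key i j h hj e
    · exact (key j i h hi e.symm).symm
  have hrange : ∀ i : Fin 5, 2 ≤ ((g ^ ((i : ℕ) + 2)) 0 : ℕ) ∧ ((g ^ ((i : ℕ) + 2)) 0 : ℕ) ≤ 6 := by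
    intro i
    have h0' : (g ^ ((i : ℕ) + 2)) 0 ≠ 0 := fun e => by
      have := hinj ((i : ℕ) + 2) 0 (by omega) (by norm_num) (by rw [e, pow_zero]; rfl)
      omega
    have h1' : (g ^ ((i : ℕ) + 2)) 0 ≠ 1 := fun e => by
      have := hinj ((i : ℕ) + 2) 1 (by omega) (by norm_num) (by rw [e, pow_one, h0])
      omega
    have h7' : (g ^ ((i : ℕ) + 2)) 0 ≠ 7 := fun e => hmoved _ (by rw [e, h7])
    have := ((g ^ ((i : ℕ) + 2)) 0).2
    rw [Ne, Fin.ext_iff] at h0' h1' h7'
    simp only [Fin.val_zero, Fin.val_one, show ((7 : Fin 8) : ℕ) = 7 from rfl] at h0' h1' h7'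
    omega
  let f : Fin 5 → Fin 5 := fun i => ⟨((g ^ ((i : ℕ) + 2)) 0 : ℕ) - 2, by have := hrange i; omega⟩
  have hf : Function.Injective f := fun i j e => by
    simp only [f, Fin.mk.injEq] at e
    have := hrange i
    have := hrange j
    have := hinj ((i : ℕ) + 2) ((j : ℕ) + 2) (by omega) (by omega) (Fin.ext (by omega))
    exact Fin.ext (by omega)
  let σ : Equiv.Perm (Fin 5) := Equiv.ofBijective f (Finite.injective_iff_bijective.1 hf)
  refine ⟨σ, fun x => ?_⟩
  by_cases hx : x = 7
  · subst hx; rw [h7]; rfl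
  obtain ⟨i, hi, hix⟩ := hcyc 0 x (by rw [h0]; decide) (fun e => hx (by
    by_contra hne
    exact absurd e (by
      have hcy : g.IsCycle := Equiv.Perm.isCycle_of_prime_order (by rw [hg]; norm_num)
        (by rw [hg]; exact lt_of_le_of_lt (Finset.card_le_univ _) (by simp))
      have hs : g.support.card = 7 := by rw [← hcy.orderOf, hg]
      have hsub : g.support ⊆ (Finset.univ : Finset (Fin 8)).erase 7 := fun y hy => by
        rw [Equiv.Perm.mem_support] at hy
        simp only [Finset.mem_erase, Finset.mem_univ, and_true]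
        exact fun e' => hy (e' ▸ h7)
      have := Finset.eq_of_subset_of_card_le hsub (by rw [hs]; simp)
      exact Equiv.Perm.mem_support.1 (this ▸ Finset.mem_erase.2 ⟨hne, Finset.mem_univ _⟩))))
  have hs : ∀ j : Fin 5, (σ j : ℕ) + 2 = ((g ^ ((j : ℕ) + 2)) 0 : ℕ) := fun j => by
    show ((g ^ ((j : ℕ) + 2)) 0 : ℕ) - 2 + 2 = _
    have := hrange j; omega
  have e0 : ((g ^ 0) 0 : ℕ) = 0 := rfl
  have e1' : ((g ^ 1) 0 : ℕ) = 1 := by rw [pow_one, h0]; rfl
  have e7 : (g ^ 7) 0 = (0 : Fin 8) := by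
    have e := pow_orderOf_eq_one g
    rw [hg] at e
    rw [e]; rfl
  have hl : ∀ k : ℕ, k ≤ 7 →
      ([0, 1, (σ 0 : ℕ) + 2, (σ 1 : ℕ) + 2, (σ 2 : ℕ) + 2, (σ 3 : ℕ) + 2, (σ 4 : ℕ) + 2, 0] :
        List ℕ).getD k 0 = ((g ^ k) 0 : ℕ) := by
    intro k hk
    interval_cases k
    · exact e0.symm
    · exact e1'.symm
    · exact hs 0
    · exact hs 1
    · exact hs 2
    · exact hs 3
    · exact hs 4
    · rw [e7]; rfl
  have hidx : ([0, 1, (σ 0 : ℕ) + 2, (σ 1 : ℕ) + 2, (σ 2 : ℕ) + 2, (σ 3 : ℕ) + 2, (σ 4 : ℕ) + 2, 0] :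
      List ℕ).idxOf (x : ℕ) = i := by
    have hne : ∀ k, k < i → ((g ^ k) 0 : ℕ) ≠ (x : ℕ) := fun k hk e =>
      absurd (hinj k i (by omega) hi (by rw [hix]; exact Fin.ext e)) (by omega)
    have hlen : i < ([0, 1, (σ 0 : ℕ) + 2, (σ 1 : ℕ) + 2, (σ 2 : ℕ) + 2, (σ 3 : ℕ) + 2,
        (σ 4 : ℕ) + 2, 0] : List ℕ).length := by simp; omega
    rw [List.idxOf, List.findIdx_eq hlen]
    refine ⟨?_, fun k hk => ?_⟩
    · rw [beq_iff_eq, ← List.getD_eq_getElem _ 0, hl i (by omega), hix]
    · rw [beq_eq_false_iff_ne, ← List.getD_eq_getElem _ 0, hl k (by omega)]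
      exact hne k hk
  have hnx : next σ x = Fin.ofNat 8 ((g ^ (i + 1)) 0 : ℕ) := by
    rw [next, if_neg hx, hidx, hl (i + 1) (by omega)]
  rw [hnx, pow_succ', Equiv.Perm.mul_apply, hix]
  exact (Fin.ofNat_val_eq_self _).symm

theorem not_1344 (S : Subgroup P8) [IsSimpleGroup S] (hnc : ¬ IsMulCommutative S) :
    Nat.card S ≠ 1344 := by
  classical
  intro hS
  haveI : Fact (Nat.Prime 2) := ⟨Nat.prime_two⟩
  haveI : Fact (Nat.Prime 7) := ⟨by norm_num⟩
  set A := alternatingGroup (Fin 8)
  have hSA : S ≤ A := fun x hx => Lead.AltEightSimple.le_alt hnc S.subtype ⟨x, hx⟩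
  have hA : Nat.card A = 20160 := by rw [nat_card_alternatingGroup, Nat.card_fin]; rfl
  have hTA : sylowT ≤ A := fun g hg => (sylowT_le (H := A) fun x hx => Equiv.Perm.mem_alternatingGroup.2 (gens_even x hx)) hg
  obtain ⟨P0⟩ := (inferInstance : Nonempty (Sylow 2 ↥S))
  have hP0 : Nat.card P0 = 64 := by
    rw [Sylow.card_eq_multiplicity, hS]
    decide +kernel
  let P1 : Subgroup ↥A := ((P0 : Subgroup ↥S).map S.subtype).subgroupOf A
  have hP1 : Nat.card P1 = 2 ^ (Nat.card ↥A).factorization 2 := by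
    rw [Nat.card_congr (subgroupOfEquivOfLe ((map_subtype_le _).trans hSA)).toEquiv,
      card_map_of_injective S.subtype_injective, hP0, hA]
    decide +kernel
  let T1 : Subgroup ↥A := sylowT.subgroupOf A
  have hT1 : Nat.card T1 = 2 ^ (Nat.card ↥A).factorization 2 := by
    rw [Nat.card_congr (subgroupOfEquivOfLe hTA).toEquiv, card_sylowT, hA]
    decide +kernel
  obtain ⟨c, hc⟩ := MulAction.exists_smul_eq ↥A (Sylow.ofCard P1 hP1) (Sylow.ofCard T1 hT1)
  -- the conjugate containing the fixed Sylow subgroup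
  let e : ↥S ≃* ↥(S.map (MulAut.conj (c : P8)).toMonoidHom) :=
    S.equivMapOfInjective _ (MulAut.conj (c : P8)).injective
  set S' := S.map (MulAut.conj (c : P8)).toMonoidHom with hS'
  haveI : Nontrivial S' := e.symm.toEquiv.nontrivial
  haveI : IsSimpleGroup S' := IsSimpleGroup.isSimpleGroup_of_surjective e.toMonoidHom e.surjective
  have hS'c : Nat.card S' = 1344 := by rw [← Nat.card_congr e.toEquiv, hS]
  have hTS : sylowT ≤ S' := by
    intro t ht
    have h1 : (⟨t, hTA ht⟩ : ↥A) ∈ (Sylow.ofCard T1 hT1 : Subgroup ↥A) := ht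
    rw [← hc] at h1
    obtain ⟨y, hy, hyt⟩ := h1
    obtain ⟨z, hz, hzy⟩ := hy
    exact ⟨(z : P8), z.2, by
      have e : (c : P8) * (y : P8) * (c : P8)⁻¹ = t := by simpa using congrArg Subtype.val hyt
      rw [show (y : P8) = ((z : ↥S) : P8) from hzy.symm] at e
      simpa using e⟩
  obtain ⟨g0, hg0⟩ := exists_prime_orderOf_dvd_card' (G := S') 7 (by rw [hS'c]; norm_num)
  have hg0' : orderOf (g0 : P8) = 7 := by rw [Subgroup.orderOf_coe]; exact hg0
  obtain ⟨a, ha, -⟩ := seven_shape hg0'
  obtain ⟨t, ht, hta⟩ := t_trans a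
  set g1 : P8 := t * g0 * t⁻¹ with hg1
  have hg1S : g1 ∈ S' := mul_mem (mul_mem (hTS ht) g0.2) (inv_mem (hTS ht))
  have hg17 : g1 7 = 7 := by
    rw [hg1, ← hta]
    simp [ha]
  have hg1o : orderOf g1 = 7 := by
    rw [hg1, show t * (g0 : P8) * t⁻¹ = (MulAut.conj t).toMonoidHom g0 by simp,
      orderOf_injective _ (MulAut.conj t).injective, hg0']
  have hg10 : g1 0 ≠ 0 := fun e0 => by
    obtain ⟨b, hb, hb'⟩ := seven_shape hg1o
    have hcy : g1.IsCycle := Equiv.Perm.isCycle_of_prime_order (by rw [hg1o]; norm_num)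
      (by rw [hg1o]; exact lt_of_le_of_lt (Finset.card_le_univ _) (by simp))
    have hs : g1.support.card = 7 := by rw [← hcy.orderOf, hg1o]
    have hsub : g1.support ⊆ ((Finset.univ : Finset (Fin 8)).erase 0).erase 7 := fun y hy => by
      rw [Equiv.Perm.mem_support] at hy
      simp only [Finset.mem_erase, Finset.mem_univ, and_true]
      exact ⟨fun e' => hy (e' ▸ hg17), fun e' => hy (e' ▸ e0)⟩
    have := Finset.card_le_card hsub
    rw [hs] at this
    simp at this
  have hg11 : g1 1 ≠ 1 := fun e1' => by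
    have hcy : g1.IsCycle := Equiv.Perm.isCycle_of_prime_order (by rw [hg1o]; norm_num)
      (by rw [hg1o]; exact lt_of_le_of_lt (Finset.card_le_univ _) (by simp))
    have hs : g1.support.card = 7 := by rw [← hcy.orderOf, hg1o]
    have hsub : g1.support ⊆ ((Finset.univ : Finset (Fin 8)).erase 1).erase 7 := fun y hy => by
      rw [Equiv.Perm.mem_support] at hy
      simp only [Finset.mem_erase, Finset.mem_univ, and_true]
      exact ⟨fun e' => hy (e' ▸ hg17), fun e' => hy (e' ▸ e1')⟩
    have := Finset.card_le_card hsub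
    rw [hs] at this
    simp at this
  obtain ⟨-, -, hcyc⟩ := seven_shape hg1o
  obtain ⟨i, hi, hi1⟩ := hcyc 0 1 hg10 hg11
  have hi0 : i ≠ 0 := by rintro rfl; simp at hi1
  set g := g1 ^ i with hg
  have hgS : g ∈ S' := pow_mem hg1S i
  have hgo : orderOf g = 7 := by
    rw [hg, Nat.Coprime.orderOf_pow (by
      rw [hg1o]
      exact (Nat.Prime.coprime_iff_not_dvd (by norm_num)).2 fun h => by
        have := Nat.le_of_dvd (by omega) h; omega), hg1o]
  have hg7 : g 7 = 7 := Function.IsFixedPt.perm_pow hg17 i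
  obtain ⟨σ, hσ⟩ := exists_sigma hgo hg7 hi1
  have hnorm : ∀ E ∈ [eOne, eTwo], (E.all fun a => E.any fun b =>
      (List.finRange 8).all fun x => next σ (a x) == b (next σ x)) = true → False := by
    intro E hE hEg
    let N : Subgroup P8 := Subgroup.closure {x | x ∈ E}
    have hEsub : ∀ x ∈ E, x ∈ sylowT := fun x hx => by
      refine e_in x ?_
      rcases List.mem_cons.1 hE with rfl | h
      · exact List.mem_append_left _ hx
      · rw [List.mem_singleton] at h; subst h; exact List.mem_append_right _ hx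
    have hnormT : sylowT ≤ normalizer (N : Set P8) := by
      refine sylowT_le fun u hu => ?_
      have key : N.map (MulAut.conj u).toMonoidHom ≤ N := by
        rw [MonoidHom.map_closure, closure_le]
        rintro _ ⟨y, hy, rfl⟩
        obtain ⟨z, hz, hzy⟩ := List.mem_map.1 (e_normal E hE u hu y hy)
        exact Subgroup.subset_closure (by rw [code_inj hzy] at hz; exact hz)
      have hle : N.map (MulAut.conj u).toMonoidHom = N := eq_of_le_of_card_ge key
        (by rw [card_map_of_injective (MulAut.conj u).injective])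
      refine mem_normalizer_iff.2 fun x => ⟨fun hx => key ⟨x, hx, rfl⟩, fun hx => ?_⟩
      rw [← hle] at hx
      obtain ⟨y, hy, hyx⟩ := hx
      exact ((MulAut.conj u).injective hyx) ▸ hy
    have hgN : g ∈ normalizer (N : Set P8) := by
      have key : N.map (MulAut.conj g).toMonoidHom ≤ N := by
        rw [MonoidHom.map_closure, closure_le]
        rintro _ ⟨a, ha', rfl⟩
        obtain ⟨b, hb, hab⟩ := List.any_eq_true.1 (List.all_eq_true.1 hEg a ha')
        refine Subgroup.subset_closure (show (MulAut.conj g) a ∈ E from ?_)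
        suffices (MulAut.conj g) a = b by rw [this]; exact hb
        rw [MulAut.conj_apply]
        refine mul_inv_eq_iff_eq_mul.2 (Equiv.ext fun x => ?_)
        simp only [Equiv.Perm.mul_apply, hσ]
        exact beq_iff_eq.1 (List.all_eq_true.1 hab x (List.mem_finRange x))
      have hle : N.map (MulAut.conj g).toMonoidHom = N := eq_of_le_of_card_ge key
        (by rw [card_map_of_injective (MulAut.conj g).injective])
      refine mem_normalizer_iff.2 fun x => ⟨fun hx => key ⟨x, hx, rfl⟩, fun hx => ?_⟩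
      rw [← hle] at hx
      obtain ⟨y, hy, hyx⟩ := hx
      exact ((MulAut.conj g).injective hyx) ▸ hy
    let M : Subgroup ↥S' := (normalizer (N : Set P8)).subgroupOf S'
    have h64 : 64 ∣ Nat.card M := by
      rw [← card_sylowT, ← Nat.card_congr (subgroupOfEquivOfLe hTS).toEquiv]
      exact card_dvd_of_le fun x hx => hnormT hx
    have h7 : 7 ∣ Nat.card M := by
      rw [← hgo, ← Subgroup.orderOf_mk g hgS]
      exact Subgroup.orderOf_dvd_natCard M hgN
    have hM : M = ⊤ := by
      by_contra hne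
      have hd := Small.SmallOrders.card_dvd_index_factorial M hne
      have hi := M.card_mul_index
      rw [hS'c] at hi hd
      obtain ⟨q, hq⟩ : 448 ∣ Nat.card M := Nat.Coprime.mul_dvd_of_dvd_of_dvd (by norm_num) h64 h7
      have hq3 : M.index ∣ 3 := ⟨q, by
        rw [hq] at hi; nlinarith [hi]⟩
      have h3 := Nat.le_of_dvd (by norm_num) hq3
      have h1344 := Nat.le_of_dvd (Nat.factorial_pos _) hd
      have h6 := Nat.factorial_le h3
      have : (3 : ℕ).factorial = 6 := rfl
      omega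
    haveI : (N.subgroupOf S').Normal := normal_subgroupOf_of_le_normalizer
      (fun x hx => by have : (⟨x, hx⟩ : ↥S') ∈ M := hM ▸ mem_top _; exact this)
    have hNle : N ≤ sylowT := (closure_le _).2 hEsub
    have he1 : e1 ∈ N := by
      refine Subgroup.subset_closure ?_
      rcases List.mem_cons.1 hE with rfl | h
      · simp [eOne]
      · rw [List.mem_singleton] at h; subst h; simp [eTwo]
    rcases IsSimpleGroup.eq_bot_or_eq_top_of_normal (N.subgroupOf S') inferInstance with h | h
    · have h' : (⟨e1, hTS (hNle he1)⟩ : ↥S') ∈ N.subgroupOf S' := he1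
      rw [h, mem_bot] at h'
      exact e_ne (congrArg code (congrArg Subtype.val h'))
    · have := card_le_of_le ((subgroupOf_eq_top.1 h).trans hNle)
      rw [hS'c, card_sylowT] at this
      omega
  have hc0 := cand_all σ
  simp only [candOK, Bool.or_eq_true] at hc0
  rcases hc0 with (h | h) | h
  · exact hnorm eOne (by simp) h
  · exact hnorm eTwo (by simp) h
  · obtain ⟨u, hu, hu'⟩ := List.any_eq_true.1 h
    rw [Bool.and_eq_true, Bool.not_eq_true'] at hu'
    have huS : u ∈ S' := by
      exact hTS (tests_mem u hu)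
    set x : P8 := g * u with hx
    have hfun : (fun y => next σ (u y)) = ⇑x := funext fun y => by simp [x, hσ]
    rw [hfun, ← Equiv.Perm.coe_pow, ← Equiv.Perm.coe_pow] at hu'
    have h15 : x ^ 15 = 1 := Equiv.ext fun y =>
      beq_iff_eq.1 (List.all_eq_true.1 hu'.1 y (List.mem_finRange y))
    have h3 : x ^ 3 ≠ 1 := fun e => by
      have : ((List.finRange 8).all fun y => (x ^ 3) y == y) = true :=
        List.all_eq_true.2 fun y _ => by rw [e]; exact beq_self_eq_true _
      rw [this] at hu'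
      exact Bool.noConfusion hu'.2
    haveI : Fact (Nat.Prime 5) := ⟨Nat.prime_five⟩
    have h5 : orderOf (x ^ 3) = 5 := orderOf_eq_prime (by rw [← pow_mul]; exact h15) h3
    have := Subgroup.orderOf_dvd_natCard S' (pow_mem (mul_mem hgS huS) 3)
    rw [h5, hS'c] at this
    norm_num at this

end Cfsg.Agent.Lie.ConstrainedRank
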