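import Cfsg.Agent.Lib.Lead.AltEightSimple
import Cfsg.Agent.Lib.Lie.ConstrainedRank.NoBigSeven
import Cfsg.Agent.Lib.Solv.Basic
import Cfsg.Agent.Lib.Perm.AltAut
import Cfsg.Agent.Lib.Small.PSLThreeTwo
import Cfsg.Agent.Lib.Small.Order168Iso
import Cfsg.Agent.S0493
import Cfsg.Prelude.Def_Solvable

/-!
# Non-solvable subgroups of the alternating group of degree eight without normal two-subgroups
-/

set_option autoImplicit false
set_option linter.style.haveILetI false

namespace Cfsg.Agent.Lie.ConstrainedRank

open Equiv Subgroup MulAction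

local notation "P8" => Equiv.Perm (Fin 8)

universe u

theorem solvable_lt_sixty : ∀ (n : ℕ) {G : Type u} [Group G] [Finite G], Nat.card G = n → n < 60 →
    Group.IsSolvable G := by
  intro n
  induction n using Nat.strong_induction_on with
  | _ n ih =>
    intro G _ _ hn h60
    rcases subsingleton_or_nontrivial G with h | h
    · infer_instance
    by_cases hs : IsSimpleGroup G
    · by_cases hc : IsCyclic G
      · letI := IsCyclic.commGroup (α := G)
        exact isSolvable_of_comm fun a b => mul_comm a b
      · have := Cfsg.Agent.S0493.result hc (by omega)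
        omega
    · obtain ⟨N, hN, hNb, hNt⟩ : ∃ N : Subgroup G, N.Normal ∧ N ≠ ⊥ ∧ N ≠ ⊤ := by
        by_contra hne
        push Not at hne
        exact hs ⟨fun H hH => or_iff_not_imp_left.mpr (hne H hH)⟩
      have h1 : Nat.card N < n := hn ▸ Solv.card_lt_of_ne_top hNt
      have h2 : Nat.card (G ⧸ N) < n := hn ▸ Solv.card_quotient_lt N hNb
      have s1 := ih _ h1 rfl (by omega)
      have s2 := ih _ h2 rfl (by omega)
      exact Group.isSolvable_of_ker_le_range N.subtype (QuotientGroup.mk' N) (by simp [QuotientGroup.ker_mk'])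

theorem cycleType_of_prime {x : P8} {p : ℕ} (hp : p.Prime) (ho : orderOf x = p) :
    ∃ k, x.cycleType = Multiset.replicate (k + 1) p ∧ (k + 1) * p ≤ 8 := by
  obtain ⟨k, hk⟩ := Equiv.Perm.cycleType_prime_order (σ := x) (ho ▸ hp)
  rw [ho] at hk
  refine ⟨k, hk, ?_⟩
  have h := x.support.card_le_univ
  rwa [← Equiv.Perm.sum_cycleType, hk, Multiset.sum_replicate, smul_eq_mul, Fintype.card_fin] at h

theorem card_cent_five {x : P8} (ho : orderOf x = 5) : Nat.card (centralizer ({x} : Set P8)) = 30 := by
  obtain ⟨k, hk, hk8⟩ := cycleType_of_prime Nat.prime_five ho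
  obtain rfl : k = 0 := by omega
  rw [Equiv.Perm.nat_card_centralizer, hk]
  decide

theorem card_cent_seven {x : P8} (ho : orderOf x = 7) : Nat.card (centralizer ({x} : Set P8)) = 7 := by
  obtain ⟨k, hk, hk8⟩ := cycleType_of_prime (by norm_num) ho
  obtain rfl : k = 0 := by omega
  rw [Equiv.Perm.nat_card_centralizer, hk]
  decide

theorem card_cent_three {x : P8} (ho : orderOf x = 3) (h : ¬ x.IsThreeCycle) :
    Nat.card (centralizer ({x} : Set P8)) = 36 := by
  obtain ⟨k, hk, hk8⟩ := cycleType_of_prime Nat.prime_three ho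
  have hk1 : k = 1 := by
    rcases Nat.eq_zero_or_pos k with rfl | h0
    · exact absurd hk h
    · omega
  subst hk1
  rw [Equiv.Perm.nat_card_centralizer, hk]
  decide

theorem card_P8 : Nat.card P8 = 40320 := by
  rw [Nat.card_perm, Nat.card_fin]; rfl

theorem five_or_seven {G : Type*} [Group G] [Finite G] (f : G →* P8) (hf : Function.Injective f)
    (hns : ¬ Group.IsSolvable G) : 5 ∣ Nat.card G ∨ 7 ∣ Nat.card G := by
  by_contra h
  push Not at h
  refine hns (Char.isSolvable_of_two_primes Nat.prime_two Nat.prime_three _ rfl fun r hr hrd => ?_)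
  have h1 : r ∣ 40320 := card_P8 ▸ hrd.trans (card_dvd_of_injective f hf)
  have h8 : r ≤ 7 := by
    have h2 : r ∣ Nat.factorial 7 * 8 := by simpa [Nat.factorial] using h1
    rcases hr.dvd_mul.1 h2 with h | h
    · exact (hr.dvd_factorial.1 h)
    · have := (Nat.prime_dvd_prime_iff_eq hr Nat.prime_two).1 (hr.dvd_of_dvd_pow (show r ∣ 2 ^ 3 by norm_num; exact h))
      omega
  interval_cases r <;> first | omega | (exfalso; exact absurd hr (by decide)) | (exfalso; omega)

theorem no_pair {G : Type*} [Group G] [Finite G] (f : G →* P8) (hf : Function.Injective f)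
    (K L : Subgroup G) (hd : K ⊓ L = ⊥) (hcomm : ∀ x ∈ K, ∀ y ∈ L, Commute x y)
    (hK : ¬ Group.IsSolvable K) (hL : ¬ Group.IsSolvable L) : False := by
  let φ : K × L →* P8 := MonoidHom.noncommCoprod (f.comp K.subtype) (f.comp L.subtype)
    fun x y => (hcomm x x.2 y y.2).map f
  have hφ : Function.Injective φ := by
    rw [injective_iff_map_eq_one]
    rintro ⟨x, y⟩ h
    have h1 : f ((x : G) * y) = f 1 := by rw [map_mul, map_one]; exact h
    have h2 := hf h1
    have hxL : (x : G) ∈ K ⊓ L := ⟨x.2, (eq_inv_of_mul_eq_one_left h2).symm ▸ L.inv_mem y.2⟩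
    rw [hd, mem_bot] at hxL
    rw [hxL, one_mul] at h2
    exact Prod.ext (Subtype.ext hxL) (Subtype.ext h2)
  have hdiv : Nat.card K * Nat.card L ∣ 40320 := by
    rw [← Nat.card_prod, ← card_P8]; exact card_dvd_of_injective φ hφ
  have hr : ∀ (M : Subgroup G), ¬ Group.IsSolvable M → 5 ∣ Nat.card M ∨ 7 ∣ Nat.card M := fun M hM =>
    five_or_seven (f.comp M.subtype) (hf.comp M.subtype_injective) hM
  rcases hr K hK with h | h <;> rcases hr L hL with h' | h'
  · exact absurd ((Nat.mul_dvd_mul h h').trans hdiv) (by norm_num)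
  · haveI : Fact (Nat.Prime 5) := ⟨Nat.prime_five⟩
    obtain ⟨g, hg⟩ := exists_prime_orderOf_dvd_card' (G := K) 5 h
    haveI : Fact (Nat.Prime 7) := ⟨by norm_num⟩
    obtain ⟨g', hg'⟩ := exists_prime_orderOf_dvd_card' (G := L) 7 h'
    have hmem : f (g' : G) ∈ centralizer ({f (g : G)} : Set P8) :=
      mem_centralizer_singleton_iff.2 (((hcomm g g.2 g' g'.2).map f).eq.symm)
    have h7 := Subgroup.orderOf_dvd_natCard _ hmem
    rw [card_cent_five (by rw [orderOf_injective f hf, Subgroup.orderOf_coe, hg]), orderOf_injective f hf,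
      Subgroup.orderOf_coe, hg'] at h7
    norm_num at h7
  · haveI : Fact (Nat.Prime 5) := ⟨Nat.prime_five⟩
    obtain ⟨g, hg⟩ := exists_prime_orderOf_dvd_card' (G := L) 5 h'
    haveI : Fact (Nat.Prime 7) := ⟨by norm_num⟩
    obtain ⟨g', hg'⟩ := exists_prime_orderOf_dvd_card' (G := K) 7 h
    have hmem : f (g' : G) ∈ centralizer ({f (g : G)} : Set P8) :=
      mem_centralizer_singleton_iff.2 (((hcomm g' g'.2 g g.2).map f).eq)
    have h7 := Subgroup.orderOf_dvd_natCard _ hmem
    rw [card_cent_five (by rw [orderOf_injective f hf, Subgroup.orderOf_coe, hg]), orderOf_injective f hf,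
      Subgroup.orderOf_coe, hg'] at h7
    norm_num at h7
  · exact absurd ((Nat.mul_dvd_mul h h').trans hdiv) (by norm_num)

/-- A group of permutations of degree `n` of order at least half the symmetric group. -/
theorem range_type {G : Type*} [Group G] [Finite G] {α : Type*} [Fintype α] [DecidableEq α] {n : ℕ}
    (hn : Fintype.card α = n) (h2 : 2 ≤ n) (j : G →* Equiv.Perm α) (hj : Function.Injective j)
    (h : n.factorial ≤ 2 * Nat.card G) :
    Nonempty (G ≃* alternatingGroup (Fin n)) ∨ Nonempty (G ≃* Equiv.Perm (Fin n)) := by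
  let e := MonoidHom.ofInjective hj
  let c := Fintype.equivFinOfCardEq hn
  have hi := j.range.card_mul_index
  rw [← Nat.card_congr e.toEquiv, Nat.card_perm, Nat.card_eq_fintype_card (α := α), hn] at hi
  have hidx : j.range.index = 1 ∨ j.range.index = 2 := by
    have h0 : 0 < j.range.index := Nat.pos_of_ne_zero index_ne_zero_of_finite
    have hG : 0 < Nat.card G := Nat.card_pos
    have : j.range.index ≤ 2 := by nlinarith
    omega
  rcases hidx with h1 | h1
  · exact Or.inr ⟨e.trans ((MulEquiv.subgroupCongr (index_eq_one.1 h1)).trans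
      (Subgroup.topEquiv.trans c.permCongrHom))⟩
  · exact Or.inl ⟨e.trans ((MulEquiv.subgroupCongr (Equiv.Perm.eq_alternatingGroup_of_index_eq_two h1)).trans
      c.altCongrHom)⟩

/-- The alternatives for the group with a normal subgroup of order three. -/
def ThreeType (G : Type*) [Group G] : Prop :=
  Nat.card ↥(Cfsg.pCore 3 G) = 3 ∧
    (Nonempty (G ⧸ Cfsg.pCore 3 G ≃* ↥(alternatingGroup (Fin 5))) ∨
      Nonempty (G ⧸ Cfsg.pCore 3 G ≃* Equiv.Perm (Fin 5)))

theorem fixed_all : ∀ n ∈ [3, 5, 7, 9], ∀ r ∈ [5, 7], ∀ d ∈ Nat.divisors n, d % r = n % r → d = n := by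
  decide

theorem odd_divisors : ∀ n ∈ Nat.divisors 20160, ¬ 2 ∣ n → n ≠ 1 →
    n ∈ [3, 5, 7, 9] ∨ (3 ∣ n ∧ 5 ∣ n) ∨ (3 ∣ n ∧ 7 ∣ n) ∨ (5 ∣ n ∧ 7 ∣ n) := by
  decide +kernel

theorem three_case {G : Type*} [Group G] [Finite G] (f : G →* P8) (hf : Function.Injective f)
    (hA : ∀ x, f x ∈ alternatingGroup (Fin 8)) (hns : ¬ Group.IsSolvable G)
    (h2 : ∀ N : Subgroup G, N.Normal → IsPGroup 2 N → N = ⊥) (N₀ : Subgroup G) [N₀.Normal]
    (hN₀ : N₀ ≠ ⊥) (hsol : Group.IsSolvable N₀) : ThreeType G := by
  classical
  obtain ⟨N, hNn, hNb, hNle, hmin⟩ := Solv.exists_minimal_normal_le N₀ hN₀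
  obtain ⟨hab, p, hp, -, hpg⟩ :=
    Solv.minimal_normal_elementaryAbelian N (Solv.isSolvable_of_le hNle hsol) hNb hmin
  haveI := Fact.mk hp
  obtain ⟨j, hj⟩ := IsPGroup.iff_card.1 hpg
  have hp2 : p ≠ 2 := fun e => hNb (h2 N hNn (e ▸ hpg))
  have hne1 : Nat.card N ≠ 1 := fun h => hNb (card_eq_one.1 h)
  have hprimes : ∀ q, q.Prime → q ∣ Nat.card N → q = p := fun q hq hd =>
    (Nat.prime_dvd_prime_iff_eq hq hp).1 (hq.dvd_of_dvd_pow (hj ▸ hd))
  have hA' : Nat.card G ∣ 20160 := by
    have := card_dvd_of_injective (f.codRestrict (alternatingGroup (Fin 8)) hA)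
      (MonoidHom.injective_codRestrict f _ hA |>.2 hf)
    rwa [nat_card_alternatingGroup, Nat.card_fin] at this
  have hn : Nat.card N ∈ [3, 5, 7, 9] := by
    rcases odd_divisors _ (Nat.mem_divisors.2 ⟨(card_subgroup_dvd_card N).trans hA', by norm_num⟩)
      (fun h => hp2 (hprimes 2 Nat.prime_two h).symm) hne1 with h | ⟨ha, hb⟩ | ⟨ha, hb⟩ | ⟨ha, hb⟩
    · exact h
    all_goals
      have := hprimes _ (by norm_num) ha
      have := hprimes _ (by norm_num) hb
      omega
  obtain ⟨r, hr, hrd⟩ : ∃ r ∈ [5, 7], r ∣ Nat.card G := by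
    rcases five_or_seven f hf hns with h | h
    · exact ⟨5, by simp, h⟩
    · exact ⟨7, by simp, h⟩
  have hrp : r.Prime := by
    rcases List.mem_cons.1 hr with rfl | h
    · norm_num
    · rw [List.mem_singleton] at h; subst h; norm_num
  haveI := Fact.mk hrp
  obtain ⟨g, hg⟩ := exists_prime_orderOf_dvd_card' (G := G) r hrd
  -- such an element centralises the subgroup
  have hcent : ∀ x ∈ N, g * x = x * g := by
    letI act : MulAction (zpowers g) N := MulAction.compHom N ((MulAut.conjNormal (H := N)).comp (zpowers g).subtype)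
    have hz : IsPGroup r (zpowers g) := IsPGroup.of_card (n := 1) (by rw [Nat.card_zpowers, hg, pow_one])
    have hmod := hz.card_modEq_card_fixedPoints (α := N)
    let Fx : Subgroup N :=
      { carrier := fixedPoints (zpowers g) N
        one_mem' := fun z => map_one (MulAut.conjNormal (z : G))
        mul_mem' := fun {a b} ha hb z => (map_mul (MulAut.conjNormal (z : G)) a b).trans
          (congrArg₂ (· * ·) (ha z) (hb z))
        inv_mem' := fun {a} ha z => (map_inv (MulAut.conjNormal (z : G)) a).trans (congrArg Inv.inv (ha z)) }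
    have hd := card_subgroup_dvd_card Fx
    have hFx : Fx = ⊤ := by
      refine eq_top_of_card_eq _ (fixed_all _ hn r hr _ (Nat.mem_divisors.2 ⟨hd, Nat.card_pos.ne'⟩) ?_)
      exact hmod.symm
    intro x hx
    have h1 : (⟨x, hx⟩ : N) ∈ Fx := hFx ▸ mem_top _
    have h3 : g * x * g⁻¹ = x := congrArg Subtype.val (h1 ⟨g, mem_zpowers g⟩)
    exact mul_inv_eq_iff_eq_mul.1 h3
  have hNc : Nat.card N ∣ Nat.card (centralizer ({f g} : Set P8)) := by
    rw [← card_map_of_injective hf]
    refine card_dvd_of_le ?_
    rintro _ ⟨x, hx, rfl⟩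
    rw [mem_centralizer_singleton_iff, ← map_mul, ← map_mul, hcent x hx]
  have hgo : orderOf (f g) = r := by rw [orderOf_injective f hf, hg]
  -- hence the subgroup has prime order
  simp only [List.mem_cons, List.not_mem_nil, or_false] at hn
  have hprime : (Nat.card N).Prime := by
    have h307 : Nat.card (centralizer ({f g} : Set P8)) = 30 ∨ Nat.card (centralizer ({f g} : Set P8)) = 7 := by
      rcases List.mem_cons.1 hr with rfl | h
      · exact Or.inl (card_cent_five hgo)
      · rw [List.mem_singleton] at h; subst h; exact Or.inr (card_cent_seven hgo)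
    rcases hn with h | h | h | h <;> rw [h] <;> try norm_num
    exfalso
    rw [h] at hNc
    rcases h307 with e | e <;> rw [e] at hNc <;> norm_num at hNc
  haveI : IsCyclic N := isCyclic_of_prime_card (p := Nat.card N) (hp := ⟨hprime⟩) rfl
  have hsmall : ∀ x ∈ N, x ≠ 1 → Nat.card N = 3 ∧ (f x).IsThreeCycle := by
    intro x hx hx1
    have hxo : orderOf (f x) = Nat.card N := by
      rw [orderOf_injective f hf]
      rcases (Nat.dvd_prime hprime).1 (Subgroup.orderOf_dvd_natCard N hx) with h | h
      · exact absurd (orderOf_eq_one_iff.1 h) hx1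
      · exact h
    by_contra hcon
    refine hns ?_
    have hC : Nat.card (centralizer ({f x} : Set P8)) < 60 := by
      rcases hn with h | h | h | h <;> rw [h] at hxo
      · rw [card_cent_three hxo fun h' => hcon ⟨h, h'⟩]; norm_num
      · rw [card_cent_five hxo]; norm_num
      · rw [card_cent_seven hxo]; norm_num
      · rw [h] at hprime; norm_num at hprime
    let ψ : G →* MulAut N := MulAut.conjNormal
    haveI : Group.IsSolvable (MulAut N) := isSolvable_of_comm fun a b => by
      apply (IsCyclic.mulAutMulEquiv N).injective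
      rw [map_mul, map_mul, mul_comm]
    have hker : ∀ y ∈ ψ.ker, f y ∈ centralizer ({f x} : Set P8) := fun y hy => by
      have h1 : (ψ y) ⟨x, hx⟩ = ⟨x, hx⟩ := by rw [MonoidHom.mem_ker.1 hy]; rfl
      have h2 : y * x * y⁻¹ = x := congrArg Subtype.val h1
      rw [mem_centralizer_singleton_iff, ← map_mul, ← map_mul, mul_inv_eq_iff_eq_mul.1 h2]
    haveI : Group.IsSolvable ψ.ker := solvable_lt_sixty _ rfl (lt_of_le_of_lt
      (Nat.card_le_card_of_injective (fun y : ψ.ker => (⟨f y, hker y y.2⟩ : centralizer ({f x} : Set P8)))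
        fun a b h => Subtype.ext (hf (congrArg Subtype.val h))) hC)
    exact Group.isSolvable_of_ker_le_range ψ.ker.subtype ψ (by rw [Subgroup.range_subtype])
  obtain ⟨x, hx, hx1⟩ := N.bot_or_exists_ne_one.resolve_left hNb
  obtain ⟨hN3, hx3⟩ := hsmall x hx hx1
  set S := (f x).support with hS
  have hS3 : S.card = 3 := hx3.card_support
  have hsupp : ∀ y ∈ N, y ≠ 1 → (f y).support = S := by
    intro y hy hy1
    have hz : zpowers x = N := eq_of_le_of_card_ge (zpowers_le.2 hx) (by
      rw [Nat.card_zpowers, hN3, ← orderOf_injective f hf, hx3.orderOf])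
    obtain ⟨i, rfl⟩ := mem_zpowers_iff.1 (hz.ge hy)
    refine Finset.eq_of_subset_of_card_le ?_ (by rw [hS3, (hsmall _ hy hy1).2.card_support])
    rw [map_zpow]
    exact Equiv.Perm.support_zpow_le _ _
  have hinv : ∀ (y : G) (a : Fin 8), a ∈ S ↔ f y a ∈ S := by
    intro y a
    have h1 : y * x * y⁻¹ ∈ N := hNn.conj_mem x hx y
    have h3 := hsupp _ h1 (fun e => hx1 (conj_eq_one_iff.1 e))
    rw [map_mul, map_mul, map_inv, Equiv.Perm.support_conj, ← hS] at h3
    constructor
    · intro h
      rw [← h3]
      exact Finset.mem_map_of_mem _ h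
    · intro h
      rw [← h3, Finset.mem_map] at h
      obtain ⟨b, hb, hb'⟩ := h
      rwa [← (f y).injective hb']
  let res : G →* Equiv.Perm {a : Fin 8 // a ∉ S} :=
    { toFun := fun y => (f y).subtypePerm fun a => not_congr (hinv y a).symm
      map_one' := Equiv.ext fun a => Subtype.ext (by simp)
      map_mul' := fun y z => Equiv.ext fun a => Subtype.ext (by
        simp [Equiv.Perm.subtypePerm_apply]; rfl) }
  have hker : res.ker = N := by
    let T : Subgroup P8 := (alternatingGroup {a : Fin 8 // a ∈ S}).map Equiv.Perm.ofSubtype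
    haveI : Nontrivial {a : Fin 8 // a ∈ S} := by
      rw [← Finite.one_lt_card_iff_nontrivial, Nat.card_eq_fintype_card, Fintype.card_coe]; omega
    have hT : Nat.card T = 3 := by
      rw [card_map_of_injective Equiv.Perm.ofSubtype_injective, nat_card_alternatingGroup,
        Nat.card_eq_fintype_card, Fintype.card_coe, hS3]
      rfl
    have hle : res.ker.map f ≤ T := by
      rintro _ ⟨y, hy, rfl⟩
      have hfix : ∀ a, a ∉ S → f y a = a := fun a ha => by
        have := Equiv.Perm.ext_iff.1 (MonoidHom.mem_ker.1 hy) ⟨a, ha⟩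
        exact congrArg Subtype.val this
      have e : Equiv.Perm.ofSubtype ((f y).subtypePerm (p := fun a => a ∈ S) fun a => (hinv y a).symm) = f y :=
        Equiv.Perm.ofSubtype_subtypePerm _ fun a ha => by_contra fun h => ha (hfix a h)
      refine ⟨_, Equiv.Perm.mem_alternatingGroup.2 ?_, e⟩
      rw [← Equiv.Perm.sign_ofSubtype, e]
      exact Equiv.Perm.mem_alternatingGroup.1 (hA y)
    have hNle' : N ≤ res.ker := fun y hy => by
      rw [MonoidHom.mem_ker]
      refine Equiv.ext fun a => Subtype.ext ?_
      by_cases hy1 : y = 1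
      · subst hy1; simp
      · exact Equiv.Perm.notMem_support.1 (by rw [hsupp y hy hy1]; exact a.2)
    refine (eq_of_le_of_card_ge hNle' ?_).symm
    rw [hN3, ← card_map_of_injective hf, ← hT]
    exact card_le_of_le hle
  have h5 : Fintype.card {a : Fin 8 // a ∉ S} = 5 := by
    rw [Fintype.card_subtype_compl, Fintype.card_fin, Fintype.card_coe, hS3]
  let eq : G ⧸ N ≃* res.range :=
    (QuotientGroup.quotientMulEquivOfEq hker.symm).trans (QuotientGroup.quotientKerEquivRange res)
  have hns' : ¬ Group.IsSolvable res.range := fun h => hns (by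
    haveI : Group.IsSolvable res.ker := hker ▸ Solv.isSolvable_of_le hNle hsol
    exact Group.isSolvable_of_ker_le_range res.ker.subtype res.rangeRestrict
      (by rw [Subgroup.range_subtype, MonoidHom.ker_rangeRestrict]))
  have h60 : 60 ≤ Nat.card res.range := not_lt.1 fun h => hns' (solvable_lt_sixty _ rfl h)
  have hcore : Cfsg.pCore 3 G = N := by
    refine le_antisymm (sSup_le ?_) (le_sSup ⟨hNn, IsPGroup.of_card (n := 1) (by rw [hN3, pow_one])⟩)
    rintro M ⟨hMn, hM3⟩
    rw [← hker]
    intro y hy
    let A5 := alternatingGroup {a : Fin 8 // a ∉ S}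
    have hMA : M.map res ≤ A5 := by
      rintro _ ⟨z, hz, rfl⟩
      rw [Equiv.Perm.mem_alternatingGroup]
      obtain ⟨k, hk⟩ := hM3 ⟨z, hz⟩
      have hk' : z ^ 3 ^ k = 1 := congrArg Subtype.val hk
      have hs : Equiv.Perm.sign (res z) ^ 3 ^ k = 1 := by rw [← map_pow, ← map_pow, hk', map_one, map_one]
      rcases Int.units_eq_one_or (Equiv.Perm.sign (res z)) with h | h
      · exact h
      · rw [h, Odd.neg_one_pow (Odd.pow (by decide))] at hs
        exact absurd hs (by decide)
    haveI : IsSimpleGroup A5 := alternatingGroup.isSimpleGroup (by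
      rw [Nat.card_eq_fintype_card]; exact h5.ge)
    have hR : A5 ≤ res.range := by
      have hi := res.range.card_mul_index
      rw [Nat.card_perm, Nat.card_eq_fintype_card (α := {a : Fin 8 // a ∉ S}), h5] at hi
      have h0 : 0 < res.range.index := Nat.pos_of_ne_zero index_ne_zero_of_finite
      have : res.range.index ≤ 2 := by
        rw [show Nat.factorial 5 = 120 from rfl] at hi
        by_contra hc
        have := Nat.mul_le_mul h60 (not_le.1 hc)
        omega
      rcases (by omega : res.range.index = 1 ∨ res.range.index = 2) with h | h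
      · rw [index_eq_one.1 h]; exact le_top
      · exact (Equiv.Perm.eq_alternatingGroup_of_index_eq_two h).ge
    haveI : ((M.map res).subgroupOf A5).Normal := by
      refine ⟨fun a ha b => ?_⟩
      obtain ⟨z, hz, hza⟩ := ha
      obtain ⟨w, hw⟩ := hR b.2
      refine ⟨w * z * w⁻¹, hMn.conj_mem z hz w, ?_⟩
      simp [hza, hw]
    rcases IsSimpleGroup.eq_bot_or_eq_top_of_normal ((M.map res).subgroupOf A5) inferInstance with h | h
    · rw [subgroupOf_eq_bot] at h
      have : res y ∈ (⊥ : Subgroup (Equiv.Perm {a : Fin 8 // a ∉ S})) := h.le_bot ⟨⟨y, hy, rfl⟩, hMA ⟨y, hy, rfl⟩⟩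
      exact mem_bot.1 this
    · exfalso
      have hd : Nat.card A5 ∣ Nat.card M := by
        refine dvd_trans (card_dvd_of_le (subgroupOf_eq_top.1 h)) ?_
        exact card_map_dvd M res
      haveI : Nontrivial {a : Fin 8 // a ∉ S} := by
        rw [← Finite.one_lt_card_iff_nontrivial, Nat.card_eq_fintype_card, h5]; norm_num
      rw [nat_card_alternatingGroup, Nat.card_eq_fintype_card (α := {a : Fin 8 // a ∉ S}), h5] at hd
      obtain ⟨k, hk⟩ := IsPGroup.iff_card.1 hM3
      have : 5 ∣ 3 ^ k := hk ▸ (dvd_trans (by decide) hd)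
      have := Nat.Prime.dvd_of_dvd_pow Nat.prime_five this
      norm_num at this
  refine ⟨by rw [hcore, hN3], ?_⟩
  rcases range_type h5 (by norm_num) res.range.subtype res.range.subtype_injective (by
      have : Nat.factorial 5 = 120 := rfl
      omega) with h | h
  · exact Or.inl ⟨(QuotientGroup.quotientMulEquivOfEq hcore).trans (eq.trans h.some)⟩
  · exact Or.inr ⟨(QuotientGroup.quotientMulEquivOfEq hcore).trans (eq.trans h.some)⟩

theorem minimal_simple {G : Type*} [Group G] [Finite G] (f : G →* P8) (hf : Function.Injective f)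
    (hrad : ∀ N : Subgroup G, N.Normal → Group.IsSolvable N → N = ⊥) (N : Subgroup G) [N.Normal]
    (hNb : N ≠ ⊥) (hmin : ∀ K : Subgroup G, K.Normal → K ≤ N → K = ⊥ ∨ K = N) : IsSimpleGroup N := by
  haveI : Nontrivial N := (nontrivial_iff_ne_bot N).2 hNb
  refine ⟨fun J hJ => ?_⟩
  by_cases hJb : J = ⊥
  · exact Or.inl hJb
  refine Or.inr ?_
  haveI := hJ
  obtain ⟨K, hKn, hKb, hKJ, hKmin⟩ := Solv.exists_minimal_normal_le J hJb
  suffices K = ⊤ from top_le_iff.1 (this ▸ hKJ)
  set K' := K.map N.subtype with hK'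
  let cj : G → Subgroup N := fun g => K.map (MulAut.conjNormal g : MulAut N).toMonoidHom
  have hcjn : ∀ g, (cj g).Normal := fun g => hKn.map _ (MulAut.conjNormal g : MulAut N).surjective
  have hpair : ∀ g, cj g ≠ K → cj g ⊓ K = ⊥ := by
    intro g hne
    haveI := hcjn g
    rcases hKmin (cj g ⊓ K) inferInstance inf_le_right with h | h
    · exact h
    · exact absurd (eq_of_le_of_card_ge (h ▸ inf_le_left : K ≤ cj g)
        (card_map_of_injective (MulAut.conjNormal g : MulAut N).injective).le).symm hne
  by_cases hall : ∀ g, cj g = K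
  · have hn' : K'.Normal := by
      refine ⟨fun a ha g => ?_⟩
      obtain ⟨k, hk, rfl⟩ := ha
      exact ⟨MulAut.conjNormal g k, (hall g).le ⟨k, hk, rfl⟩, by simp⟩
    rcases hmin K' hn' (map_subtype_le K) with h | h
    · exact absurd ((map_eq_bot_iff_of_injective _ N.subtype_injective).1 h) hKb
    · exact map_injective N.subtype_injective (h.trans (by rw [← MonoidHom.range_eq_map, range_subtype]))
  push Not at hall
  obtain ⟨g₀, hg₀⟩ := hall
  exfalso
  by_cases hKs : Group.IsSolvable K
  · obtain ⟨hKab, -⟩ := Solv.minimal_normal_elementaryAbelian K hKs hKb hKmin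
    have hcomm : ∀ (g : G) (a b : N), a ∈ cj g → b ∈ K → Commute a b := by
      intro g a b ha hb
      by_cases he : cj g = K
      · exact congrArg Subtype.val (hKab.1.1 ⟨a, he.le ha⟩ ⟨b, hb⟩)
      · haveI := hcjn g
        exact commute_of_normal_of_disjoint (cj g) K (hcjn g) hKn (disjoint_iff.2 (hpair g he)) a b ha hb
    have hset : ∀ a ∈ Group.conjugatesOfSet (K' : Set G), ∀ b ∈ Group.conjugatesOfSet (K' : Set G),
        a * b = b * a := by
      intro a ha b hb
      obtain ⟨k, ⟨k₀, hk₀, rfl⟩, hka⟩ := Group.mem_conjugatesOfSet_iff.1 ha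
      obtain ⟨l, ⟨l₀, hl₀, rfl⟩, hlb⟩ := Group.mem_conjugatesOfSet_iff.1 hb
      obtain ⟨u, rfl⟩ := isConj_iff.1 hka
      obtain ⟨v, rfl⟩ := isConj_iff.1 hlb
      have h1 := hcomm (v⁻¹ * u) (MulAut.conjNormal (v⁻¹ * u) k₀) l₀ ⟨k₀, hk₀, rfl⟩ hl₀
      have h2 : Commute ((v⁻¹ * u) * (k₀ : G) * (v⁻¹ * u)⁻¹) (l₀ : G) := by
        have h3 := h1.map N.subtype
        simpa [mul_assoc] using h3
      have h4 : Commute (v * ((v⁻¹ * u) * (k₀ : G) * (v⁻¹ * u)⁻¹) * v⁻¹) (v * (l₀ : G) * v⁻¹) :=
        h2.map (MulAut.conj v).toMonoidHom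
      have e : v * ((v⁻¹ * u) * (k₀ : G) * (v⁻¹ * u)⁻¹) * v⁻¹ = u * (k₀ : G) * u⁻¹ := by group
      rw [e] at h4
      exact h4.eq
    haveI := normalClosure_normal (s := (K' : Set G))
    have := hrad (normalClosure (K' : Set G)) inferInstance (by
      haveI : IsMulCommutative (normalClosure (K' : Set G)) := by
        unfold normalClosure
        exact isMulCommutative_closure hset
      exact isSolvable_of_comm fun a b => mul_comm' a b)
    refine hKb ((map_eq_bot_iff_of_injective _ N.subtype_injective).1 (eq_bot_iff.2 ?_))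
    exact this ▸ subset_normalClosure
  · refine no_pair (f.comp N.subtype) (hf.comp N.subtype_injective) (cj g₀) K (hpair g₀ hg₀) ?_ ?_ hKs
    · intro a ha b hb
      exact commute_of_normal_of_disjoint (cj g₀) K (hcjn g₀) hKn (disjoint_iff.2 (hpair g₀ hg₀)) a b ha hb
    · intro h
      haveI : Group.IsSolvable ↥(K.map ((MulAut.conjNormal g₀ : MulAut N) : N →* N)) := h
      exact hKs (Group.isSolvable_of_isSolvable_injective
        (f := ((MulAut.conjNormal g₀ : MulAut N).subgroupMap K).toMonoidHom) (MulEquiv.injective _))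

theorem aut_embed {G : Type*} [Group G] [Finite G] (N : Subgroup G) [N.Normal]
    (hC : centralizer (N : Set G) = ⊥) {n : ℕ} (hn : 5 ≤ n) (h6 : n ≠ 6)
    (e : N ≃* alternatingGroup (Fin n)) :
    ∃ j : G →* Equiv.Perm (Fin n), Function.Injective j := by
  let ψ : G →* MulAut (alternatingGroup (Fin n)) := (MulAut.congr e).toMonoidHom.comp MulAut.conjNormal
  have hψ : Function.Injective ψ := by
    refine (MulAut.congr e).injective.comp ((injective_iff_map_eq_one _).2 fun g hg => ?_)
    have : g ∈ centralizer (N : Set G) := fun a ha => by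
      have h1 : (MulAut.conjNormal g : MulAut N) ⟨a, ha⟩ = ⟨a, ha⟩ := by rw [hg]; rfl
      exact (mul_inv_eq_iff_eq_mul.1 (congrArg Subtype.val h1 : g * a * g⁻¹ = a)).symm
    rwa [hC, mem_bot] at this
  let c : Equiv.Perm (Fin n) →* MulAut (alternatingGroup (Fin n)) := MulAut.conjNormal
  have hc : Function.Bijective c := by
    refine ⟨(injective_iff_map_eq_one _).2 fun π hπ => ?_, fun σ => ?_⟩
    · have hz : π ∈ centralizer (alternatingGroup (Fin n) : Set (Equiv.Perm (Fin n))) := fun a ha => by
        have h1 : c π ⟨a, ha⟩ = ⟨a, ha⟩ := by rw [hπ]; rfl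
        exact (mul_inv_eq_iff_eq_mul.1 (congrArg Subtype.val h1 : π * a * π⁻¹ = a)).symm
      have hbot : centralizer (alternatingGroup (Fin n) : Set (Equiv.Perm (Fin n))) = ⊥ := by
        by_contra hne
        haveI : Nontrivial (Fin n) := Fin.nontrivial_iff_two_le.2 (by omega)
        haveI : (alternatingGroup (Fin n)).Normal := inferInstance
        haveI : IsSimpleGroup (alternatingGroup (Fin n)) := alternatingGroup.isSimpleGroup (by simpa using hn)
        set C := centralizer (alternatingGroup (Fin n) : Set (Equiv.Perm (Fin n)))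
        have hCA : C ⊓ alternatingGroup (Fin n) = ⊥ := by
          refine eq_bot_iff.2 fun a ha => ?_
          have hmem : (⟨a, ha.2⟩ : alternatingGroup (Fin n)) ∈ center (alternatingGroup (Fin n)) :=
            mem_center_iff.2 fun b => Subtype.ext (ha.1 b b.2)
          rw [alternatingGroup.center_eq_bot (by simpa using (by omega : 4 ≤ n))] at hmem
          exact congrArg Subtype.val (mem_bot.1 hmem)
        have h1 : Nat.card C = 2 := by
          have hle : Nat.card C ≤ 2 := by
            refine le_trans (Nat.card_le_card_of_injective (fun a : C => Equiv.Perm.sign (a : Equiv.Perm (Fin n))) ?_)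
              (le_of_eq (by rw [Nat.card_eq_fintype_card]; rfl))
            intro a b hab
            have hmem : (a : Equiv.Perm (Fin n))⁻¹ * b ∈ C ⊓ alternatingGroup (Fin n) := by
              refine ⟨C.mul_mem (C.inv_mem a.2) b.2, Equiv.Perm.mem_alternatingGroup.2 ?_⟩
              simp only at hab
              rw [map_mul, map_inv, hab, inv_mul_cancel]
            rw [hCA, mem_bot, inv_mul_eq_one] at hmem
            exact Subtype.ext hmem
          have : Nat.card C ≠ 1 := fun h => hne (card_eq_one.1 h)
          have : 0 < Nat.card C := Nat.card_pos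
          omega
        haveI : C.Normal := inferInstance
        obtain ⟨a, ha⟩ := C.bot_or_exists_ne_one.resolve_left hne
        have hcen : a ∈ center (Equiv.Perm (Fin n)) := by
          rw [mem_center_iff]
          intro b
          have h2 : b * a * b⁻¹ = a := by
            haveI : Finite C := inferInstance
            have hmem : b * a * b⁻¹ ∈ C := Subgroup.Normal.conj_mem inferInstance a ha.1 b
            obtain ⟨z, -, huniq⟩ := Nat.card_eq_two_iff' (1 : C) |>.1 h1
            have e1 := huniq ⟨_, hmem⟩ (fun e => ha.2 (conj_eq_one_iff.1 (congrArg Subtype.val e)))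
            have e2 := huniq ⟨a, ha.1⟩ (fun e => ha.2 (congrArg Subtype.val e))
            exact congrArg Subtype.val (e1.trans e2.symm)
          exact mul_inv_eq_iff_eq_mul.1 h2
        refine ha.2 (Equiv.ext fun x => ?_)
        rw [Equiv.Perm.one_apply]
        by_contra hax
        obtain ⟨z, hzx, hzy⟩ : ∃ z, z ≠ x ∧ z ≠ a x := by
          obtain ⟨z, hz⟩ := ((Finset.univ : Finset (Fin n)) \ {x, a x}).card_pos.1 (by
            have := Finset.le_card_sdiff {x, a x} (Finset.univ : Finset (Fin n))
            have := Finset.card_le_two (a := x) (b := a x)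
            rw [Finset.card_univ, Fintype.card_fin] at *
            omega)
          simp only [Finset.mem_sdiff, Finset.mem_insert, Finset.mem_singleton, not_or] at hz
          exact ⟨z, hz.2.1, hz.2.2⟩
        have h3 := Equiv.Perm.ext_iff.1 (mem_center_iff.1 hcen (Equiv.swap (a x) z)) x
        simp only [Equiv.Perm.mul_apply, Equiv.swap_apply_left] at h3
        rw [Equiv.swap_apply_of_ne_of_ne (Ne.symm hax) (Ne.symm hzx)] at h3
        exact hzy h3
      rw [hbot, mem_bot] at hz
      exact hz
    · obtain ⟨π, hπ⟩ := Cfsg.Agent.Perm.AltAut.exists_perm_of_ne_six (by omega) h6 σ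
      exact ⟨π, hπ.symm⟩
  exact ⟨(MulEquiv.ofBijective c hc).symm.toMonoidHom.comp ψ,
    (MulEquiv.ofBijective c hc).symm.injective.comp hψ⟩

/-- The possible quotients. -/
def SmallType (G : Type*) [Group G] : Prop :=
  (∃ (F : Type) (_ : Field F) (_ : Fintype F), Fintype.card F = 2 ∧
      Nonempty (G ≃* Matrix.ProjectiveSpecialLinearGroup (Fin 3) F)) ∨
    (∃ n : ℕ, 5 ≤ n ∧ n ≤ 8 ∧ Nonempty (G ≃* ↥(alternatingGroup (Fin n)))) ∨
    (∃ n : ℕ, 5 ≤ n ∧ n ≤ 7 ∧ Nonempty (G ≃* Equiv.Perm (Fin n))) ∨ ThreeType G

theorem classify {G : Type*} [Group G] [Finite G] (f : G →* P8) (hf : Function.Injective f)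
    (hA : ∀ x, f x ∈ alternatingGroup (Fin 8)) (hns : ¬ Group.IsSolvable G)
    (h2 : ∀ N : Subgroup G, N.Normal → IsPGroup 2 N → N = ⊥) : SmallType G := by
  classical
  by_cases hex : ∃ N : Subgroup G, N.Normal ∧ N ≠ ⊥ ∧ Group.IsSolvable N
  · obtain ⟨N, hn, hb, hs⟩ := hex
    exact Or.inr (Or.inr (Or.inr (three_case f hf hA hns h2 N hb hs)))
  have hrad : ∀ N : Subgroup G, N.Normal → Group.IsSolvable N → N = ⊥ := fun N h h' =>
    by_contra fun hb => hex ⟨N, h, hb, h'⟩
  haveI : Nontrivial G := by
    by_contra h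
    rw [not_nontrivial_iff_subsingleton] at h
    exact hns inferInstance
  obtain ⟨N, hNn, hNb, hmin⟩ := Solv.exists_minimal_normal (G := G)
  haveI := minimal_simple f hf hrad N hNb hmin
  have hNs : ¬ Group.IsSolvable N := fun h => hNb (hrad N hNn h)
  set C := centralizer (N : Set G) with hCdef
  have hC : C = ⊥ := by
    by_contra hCb
    have hd : N ⊓ C = ⊥ := hrad _ inferInstance (isSolvable_of_comm fun a b => Subtype.ext (b.2.2 a a.2.1))
    exact no_pair f hf N C hd (fun x hx y hy => hy x hx) hNs (fun h => hCb (hrad C inferInstance h))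
  -- the image of the minimal normal subgroup
  let S := N.map f
  let eS : N ≃* S := N.equivMapOfInjective f hf
  haveI : Nontrivial S := eS.symm.toEquiv.nontrivial
  haveI : IsSimpleGroup S := IsSimpleGroup.isSimpleGroup_of_surjective eS.toMonoidHom eS.surjective
  have hnc : ¬ IsMulCommutative S := fun h => hNs (isSolvable_of_comm fun a b =>
    eS.injective (by rw [map_mul, map_mul]; exact h.1.1 _ _))
  have hGA : Nat.card G ≤ 20160 := by
    have := Nat.card_le_card_of_injective (f.codRestrict (alternatingGroup (Fin 8)) hA)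
      (MonoidHom.injective_codRestrict f _ hA |>.2 hf)
    rwa [nat_card_alternatingGroup, Nat.card_fin] at this
  rcases Lead.AltEightSimple.simpleType S hnc with ⟨n, hn5, hn8, ⟨e⟩⟩ | h168 | h1344
  · haveI : Nontrivial (Fin n) := Fin.nontrivial_iff_two_le.2 (by omega)
    have hcard : n.factorial ≤ 2 * Nat.card G := by
      have h1 := card_subgroup_dvd_card N
      rw [Nat.card_congr (eS.trans e).toEquiv, nat_card_alternatingGroup, Nat.card_fin] at h1
      have h2 := Nat.le_of_dvd Nat.card_pos h1
      have h3 : 2 * (n.factorial / 2) = n.factorial :=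
        Nat.mul_div_cancel' (Nat.dvd_factorial (by norm_num) (by omega))
      omega
    have hjoin : (∃ j : G →* Equiv.Perm (Fin n), Function.Injective j) → n ≤ 7 → SmallType G := by
      rintro ⟨j, hj⟩ h7
      rcases range_type (Fintype.card_fin n) (by omega) j hj hcard with h | h
      · exact Or.inr (Or.inl ⟨n, hn5, hn8, h⟩)
      · exact Or.inr (Or.inr (Or.inl ⟨n, hn5, h7, h⟩))
    by_cases h8 : n = 8
    · subst h8
      have hbij : Function.Bijective (f.codRestrict (alternatingGroup (Fin 8)) hA) := by
        refine (Function.Injective.bijective_of_nat_card_le (MonoidHom.injective_codRestrict f _ hA |>.2 hf) ?_)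
        rw [nat_card_alternatingGroup, Nat.card_fin]
        have : Nat.factorial 8 = 40320 := rfl
        omega
      exact Or.inr (Or.inl ⟨8, hn5, hn8, ⟨MulEquiv.ofBijective _ hbij⟩⟩)
    by_cases h6 : n = 6
    · subst h6
      obtain ⟨a, ha⟩ := Lead.AltEightSimple.moved_exists S hnc
      have h5 : 5 ∣ Nat.card S := by
        rw [Nat.card_congr e.toEquiv, nat_card_alternatingGroup, Nat.card_fin]; decide
      have horb : ∀ b : Fin 8, (∃ s : S, s • b ≠ b) → Nat.card (orbit S b) = 6 := by
        intro b hb
        rcases Lead.AltEightSimple.orbit_type S hnc h5 hb with ⟨m, hm5, hm8, hm, ⟨e'⟩⟩ | ⟨h, -⟩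
        · have hmm := Nat.card_congr (e'.symm.trans e).toEquiv
          haveI : Nontrivial (Fin m) := Fin.nontrivial_iff_two_le.2 (by omega)
          rw [nat_card_alternatingGroup, nat_card_alternatingGroup, Nat.card_fin, Nat.card_fin] at hmm
          interval_cases m <;> first | exact hm | exact absurd hmm (by decide)
        · exact h
      have hmoved : ∀ b : Fin 8, b ∈ orbit S a ↔ ∃ s : S, s • b ≠ b := by
        intro b
        constructor
        · intro hb
          by_contra hfix
          push Not at hfix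
          obtain ⟨s, hs⟩ := ha
          obtain ⟨u, hu⟩ := hb
          have : b = a := by rw [← hfix u⁻¹, ← hu, inv_smul_smul]
          exact hs (this ▸ hfix s)
        · intro hb
          by_contra hnot
          have hdis : Disjoint (orbit S a) (orbit S b) := by
            rw [Set.disjoint_left]
            intro c hca hcb
            exact hnot (by
              rw [← orbit_eq_iff.2 hca, orbit_eq_iff.2 hcb]
              exact mem_orbit_self b)
          have := Set.ncard_union_eq hdis
          rw [← Nat.card_coe_set_eq (orbit S a), ← Nat.card_coe_set_eq (orbit S b), horb a ha, horb b hb] at this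
          have h8' := Set.ncard_le_ncard (Set.subset_univ (orbit S a ∪ orbit S b))
          rw [this, Set.ncard_univ, Nat.card_fin] at h8'
          omega
      have hstab : ∀ (y : G) (b : Fin 8), b ∈ orbit S a → f y b ∈ orbit S a := by
        intro y b hb
        obtain ⟨⟨_, z, hz, rfl⟩, hs⟩ := (hmoved b).1 hb
        refine (hmoved _).2 ⟨⟨f (y * z * y⁻¹), _, hNn.conj_mem z hz y, rfl⟩, fun h => hs ?_⟩
        apply (f y).injective
        simpa [Subgroup.smul_def, map_mul, map_inv] using h
      let res : G →* Equiv.Perm (orbit S a) :=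
        { toFun := fun y => (f y).subtypePerm fun b =>
            ⟨fun h => by simpa using hstab y⁻¹ _ h, hstab y b⟩
          map_one' := Equiv.ext fun b => Subtype.ext (by simp)
          map_mul' := fun y z => Equiv.ext fun b => Subtype.ext (by
            simp [Equiv.Perm.subtypePerm_apply]; rfl) }
      have hres : Function.Injective res := by
        rw [← MonoidHom.ker_eq_bot_iff]
        have hd : N ⊓ res.ker = ⊥ := by
          refine eq_bot_iff.2 fun y hy => mem_bot.2 (hf (Equiv.ext fun b => ?_))
          rw [map_one, Equiv.Perm.one_apply]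
          by_cases hb : b ∈ orbit S a
          · exact congrArg Subtype.val (Equiv.Perm.ext_iff.1 (MonoidHom.mem_ker.1 hy.2) ⟨b, hb⟩)
          · by_contra h
            exact hb ((hmoved b).2 ⟨⟨f y, y, hy.1, rfl⟩, h⟩)
        rw [eq_bot_iff, ← hC]
        exact fun y hy x hx => commute_of_normal_of_disjoint N res.ker hNn inferInstance
            (disjoint_iff.2 hd) x y hx hy
      have hk : Fintype.card (orbit S a) = 6 := by rw [← Nat.card_eq_fintype_card]; exact horb a ha
      rcases range_type hk (by norm_num) res hres hcard with h | h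
      · exact Or.inr (Or.inl ⟨6, hn5, hn8, h⟩)
      · exact Or.inr (Or.inr (Or.inl ⟨6, hn5, by norm_num, h⟩))
    exact hjoin (aut_embed N hC hn5 h6 (eS.trans e)) (by omega)
  · -- order 168
    haveI : Fact (Nat.Prime 7) := ⟨by norm_num⟩
    have hN168 : Nat.card N = 168 := by rw [Nat.card_congr eS.toEquiv]; exact h168
    obtain ⟨P⟩ := (inferInstance : Nonempty (Sylow 7 N))
    have hP : Nat.card P = 7 := by
      simpa using Small.SmallOrders.sylow_card_eq (G := N) (p := 7) (k := 1) (m := 24) (by rw [hN168]; rfl)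
        (by norm_num) P
    let P' : Subgroup G := (P : Subgroup N).map N.subtype
    have hP'c : Nat.card (P'.map f) = 7 := by
      rw [card_map_of_injective hf, card_map_of_injective N.subtype_injective, hP]
    have hnorm : Nat.card (normalizer (P' : Set G)) ∣ 21 := by
      refine dvd_trans ?_ (Lead.AltEightSimple.card_normalizer_seven f.range (fun _ ⟨y, hy⟩ => hy ▸ hA y)
        (P'.map f) (map_le_range f P') hP'c)
      rw [← card_map_of_injective hf]
      exact card_dvd_of_le (le_inf (map_le_range f _) (le_normalizer_map f))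
    have hsub : (normalizer ((P : Subgroup N) : Set N)).map N.subtype ≤ normalizer (P' : Set G) :=
      le_normalizer_map N.subtype
    have h21 : Nat.card (normalizer ((P : Subgroup N) : Set N)) = 21 := by
      have hd : Nat.card (normalizer ((P : Subgroup N) : Set N)) ∣ 21 := by
        rw [← card_map_of_injective N.subtype_injective]
        exact (card_dvd_of_le hsub).trans hnorm
      have hcnt := Small.SmallOrders.card_normalizer P
      rw [hN168] at hcnt
      have hmod : Nat.card (Sylow 7 N) % 7 = 1 := card_sylow_modEq_one 7 N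
      have hne : Nat.card (Sylow 7 N) ≠ 1 := by
        intro h
        rw [h, one_mul] at hcnt
        have := Nat.le_of_dvd (by norm_num) hd
        omega
      have hle := Nat.le_of_dvd (by norm_num) hd
      have hpos : 0 < Nat.card (normalizer ((P : Subgroup N) : Set N)) := Nat.card_pos
      generalize Nat.card (normalizer ((P : Subgroup N) : Set N)) = k at hd hcnt hle hpos ⊢
      generalize Nat.card (Sylow 7 N) = m at hcnt hmod hne
      interval_cases k <;> omega
    have hNtop : N = ⊤ := by
      have heq : (normalizer ((P : Subgroup N) : Set N)).map N.subtype = normalizer (P' : Set G) :=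
        eq_of_le_of_card_ge hsub (by
          rw [card_map_of_injective N.subtype_injective, h21]
          exact Nat.le_of_dvd (by norm_num) hnorm)
      rw [← top_le_iff, ← Sylow.normalizer_sup_eq_top P]
      exact sup_le (heq ▸ map_subtype_le _) le_rfl
    subst hNtop
    haveI : Fintype (ZMod 2) := inferInstance
    obtain ⟨hs, hc⟩ := Small.PSLThreeTwo.psl_three_two (F := ZMod 2) (ZMod.card 2)
    haveI := hs
    haveI : IsSimpleGroup G :=
      IsSimpleGroup.isSimpleGroup_of_surjective (Subgroup.topEquiv (G := G)).toMonoidHom Subgroup.topEquiv.surjective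
    exact Or.inl ⟨ZMod 2, inferInstance, inferInstance, ZMod.card 2,
      Small.Order168Iso.iso (by rw [← card_top (G := G)]; exact hN168) hc⟩
  · exact absurd h1344 (not_1344 S hnc)

theorem not_seven {G : Type*} [Group G] [Finite G] (f : G →* P8) (hf : Function.Injective f)
    (hA : ∀ x, f x ∈ alternatingGroup (Fin 8)) : ¬ Nonempty (G ≃* Equiv.Perm (Fin 7)) := by
  rintro ⟨e⟩
  haveI : IsSimpleGroup (alternatingGroup (Fin 8)) := alternatingGroup.isSimpleGroup (by simp)
  set j := f.codRestrict (alternatingGroup (Fin 8)) hA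
  have hj : Function.Injective j := MonoidHom.injective_codRestrict f _ hA |>.2 hf
  have hi := j.range.card_mul_index
  rw [← Nat.card_congr (MonoidHom.ofInjective hj).toEquiv, Nat.card_congr e.toEquiv, Nat.card_perm,
    nat_card_alternatingGroup, Nat.card_fin, Nat.card_fin] at hi
  have h4 : j.range.index = 4 := by
    norm_num [Nat.factorial] at hi
    omega
  have hne : j.range ≠ ⊤ := fun h => by rw [h, index_top] at h4; omega
  have hd := Small.SmallOrders.card_dvd_index_factorial j.range hne
  rw [h4, nat_card_alternatingGroup, Nat.card_fin] at hd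
  revert hd
  decide

end Cfsg.Agent.Lie.ConstrainedRank
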