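import Mathlib
import Cfsg.Prelude.Def_Local
import Cfsg.Prelude.Def_CaseTheorems
import Cfsg.Agent.Lib.Fusion.PConstrained
import Cfsg.Agent.Lib.Solv.HallHigman
import Cfsg.Agent.Lib.Solv.PGroupPhi

/-!
# A symmetric group of degree six on a constrained core gives sectional rank five
-/

set_option autoImplicit false
set_option maxRecDepth 100000
set_option linter.style.haveILetI false

namespace Cfsg.Agent.Lie.ConstrainedRank

open Equiv Subgroup

local notation "P6" => Equiv.Perm (Fin 6)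

section Transvections

variable {V : Type*} [CommGroup V] (h2 : ∀ v : V, v * v = 1)

/-- A transvection with centre `e`. -/
def IsTv (σ : MulAut V) (e : V) : Prop :=
  σ e = e ∧ (∀ v, σ v = v ∨ σ v = v * e) ∧ σ ≠ 1

/-- Fixed points. -/
def fix (σ : MulAut V) : Subgroup V where
  carrier := {v | σ v = v}
  one_mem' := map_one σ
  mul_mem' := fun {a b} ha hb => by
    show σ (a * b) = a * b
    rw [map_mul, show σ a = a from ha, show σ b = b from hb]
  inv_mem' := fun {a} ha => by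
    show σ a⁻¹ = a⁻¹
    rw [map_inv, show σ a = a from ha]

theorem mem_fix {σ : MulAut V} {v : V} : v ∈ fix σ ↔ σ v = v := Iff.rfl

/-- The difference map. -/
def dif (σ : MulAut V) : V →* V where
  toFun v := v * σ v
  map_one' := by simp
  map_mul' a b := by rw [map_mul, mul_mul_mul_comm]

include h2 in
theorem inv_self (v : V) : v⁻¹ = v := inv_eq_of_mul_eq_one_right (h2 v)

include h2 in
theorem dif_ker (σ : MulAut V) : (dif σ).ker = fix σ := by
  ext v
  rw [MonoidHom.mem_ker, mem_fix]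
  show v * σ v = 1 ↔ σ v = v
  rw [mul_eq_one_iff_eq_inv', inv_self h2]

include h2 in
theorem eq_mul_dif (σ : MulAut V) (v : V) : σ v = v * dif σ v := by
  show σ v = v * (v * σ v)
  rw [← mul_assoc, h2, one_mul]

theorem exists_moved {σ : MulAut V} (h : σ ≠ 1) : ∃ v, σ v ≠ v := by
  by_contra hne
  push Not at hne
  exact h (MulEquiv.ext hne)

theorem IsTv.ne_one {σ : MulAut V} {e : V} (h : IsTv σ e) : e ≠ 1 := by
  rintro rfl
  obtain ⟨v, hv⟩ := exists_moved h.2.2
  rcases h.2.1 v with e | e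
  · exact hv e
  · exact hv (by rw [e, mul_one])

theorem IsTv.unique {σ : MulAut V} {e e' : V} (h : IsTv σ e) (h' : IsTv σ e') : e = e' := by
  obtain ⟨v, hv⟩ := exists_moved h.2.2
  have h1 := (h.2.1 v).resolve_left hv
  have h3 := (h'.2.1 v).resolve_left hv
  exact mul_left_cancel (h1.symm.trans h3)

theorem IsTv.conj {σ : MulAut V} {e : V} (h : IsTv σ e) (τ : MulAut V) : IsTv (τ * σ * τ⁻¹) (τ e) := by
  refine ⟨?_, fun v => ?_, fun h1 => h.2.2 (conj_eq_one_iff.1 h1)⟩
  · show τ (σ (τ⁻¹ (τ e))) = τ e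
    rw [MulAut.inv_apply_self, h.1]
  · show τ (σ (τ⁻¹ v)) = v ∨ τ (σ (τ⁻¹ v)) = v * τ e
    rcases h.2.1 (τ⁻¹ v) with e1 | e1 <;> rw [e1]
    · left; rw [MulAut.apply_inv_self]
    · right; rw [map_mul, MulAut.apply_inv_self]

theorem fix_conj (σ τ : MulAut V) (v : V) : v ∈ fix (τ * σ * τ⁻¹) ↔ τ⁻¹ v ∈ fix σ := by
  rw [mem_fix, mem_fix]
  show τ (σ (τ⁻¹ v)) = v ↔ σ (τ⁻¹ v) = τ⁻¹ v
  constructor
  · intro h
    conv_rhs => rw [← h]
    rw [MulAut.inv_apply_self]
  · intro h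
    rw [h, MulAut.apply_inv_self]

include h2 in
theorem IsTv.card_fix [Finite V] {σ : MulAut V} {e : V} (h : IsTv σ e) :
    2 * Nat.card (fix σ) = Nat.card V := by
  have hi := (dif σ).ker.card_mul_index
  rw [index_ker, dif_ker h2] at hi
  have hr : (dif σ).range = zpowers e := by
    refine le_antisymm ?_ (zpowers_le.2 ?_)
    · rintro _ ⟨v, rfl⟩
      show v * σ v ∈ zpowers e
      rcases h.2.1 v with e1 | e1 <;> rw [e1]
      · rw [h2]; exact one_mem _
      · rw [← mul_assoc, h2, one_mul]; exact mem_zpowers e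
    · obtain ⟨v, hv⟩ := exists_moved h.2.2
      exact ⟨v, show v * σ v = e by rw [(h.2.1 v).resolve_left hv, ← mul_assoc, h2, one_mul]⟩
  rw [hr, Nat.card_zpowers, orderOf_eq_prime (by rw [pow_two]; exact h2 e) h.ne_one] at hi
  omega

include h2 in
theorem tv_of_range [Finite V] {σ : MulAut V} (hσ : σ * σ = 1) (hne : σ ≠ 1)
    (hle : Nat.card (dif σ).range ≤ 2) : ∃ e, IsTv σ e := by
  obtain ⟨v, hv⟩ := exists_moved hne
  have he : dif σ v ≠ 1 := fun h1 => hv (by rw [eq_mul_dif h2 σ v, h1, mul_one])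
  refine ⟨dif σ v, ?_, fun w => ?_, hne⟩
  · show σ (v * σ v) = v * σ v
    rw [map_mul, ← MulAut.mul_apply, hσ, MulAut.one_apply, mul_comm]
  · by_cases hw : dif σ w = 1
    · left; rw [eq_mul_dif h2 σ w, hw, mul_one]
    · right
      rw [eq_mul_dif h2 σ w]
      congr 1
      by_contra hd
      have h3 : ({1, dif σ v, dif σ w} : Set V) ⊆ (dif σ).range := by
        rintro x (rfl | rfl | rfl)
        · exact one_mem _
        · exact ⟨v, rfl⟩
        · exact ⟨w, rfl⟩
      have h4 := Set.ncard_le_ncard h3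
      rw [Set.ncard_eq_three.2 ⟨1, dif σ v, dif σ w, Ne.symm he, Ne.symm hw, Ne.symm hd, rfl⟩] at h4
      have h5 : ((dif σ).range : Set V).ncard = Nat.card (dif σ).range := (Nat.card_coe_set_eq _).symm
      omega

/-- Three commuting transvections in general position. -/
structure Frame (V : Type*) [CommGroup V] where
  /-- first -/
  A : MulAut V
  /-- second -/
  B : MulAut V
  /-- third -/
  C : MulAut V
  /-- centre -/
  ea : V
  /-- centre -/
  eb : V
  /-- centre -/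
  ec : V
  /-- common fixed subgroup -/
  U : Subgroup V
  hA : IsTv A ea
  hB : IsTv B eb
  hC : IsTv C ec
  hab : fix A ⊓ fix B = U
  hbc : fix B ⊓ fix C = U
  hca : fix C ⊓ fix A = U
  nab : ea ≠ eb
  nbc : eb ≠ ec
  nca : ec ≠ ea
  ha : ea ∈ U
  hb : eb ∈ U
  hc : ec ∈ U
  prod : ea * eb = ec
  hU : Nat.card U = 4
  hV : Nat.card V = 16

theorem Frame.fixes (F : Frame V) {u : V} (hu : u ∈ F.U) : F.A u = u ∧ F.B u = u ∧ F.C u = u :=
  ⟨(F.hab.ge hu).1, (F.hab.ge hu).2, (F.hca.ge hu).1⟩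

include h2 in
theorem pair_fix {A B : MulAut V} {ea eb : V} {U : Subgroup V} (hA : IsTv A ea) (hB : IsTv B eb)
    (hab : fix A ⊓ fix B = U) (hne : ea ≠ eb) (hb : A eb = eb) {v : V} (h : A (B v) = v) : v ∈ U := by
  have hBv : B v = v := by
    by_contra hm
    have e1 := (hB.2.1 v).resolve_left hm
    rw [e1, map_mul, hb] at h
    rcases hA.2.1 v with e2 | e2 <;> rw [e2] at h
    · exact hB.ne_one (mul_left_cancel (h.trans (mul_one v).symm))
    · rw [mul_assoc] at h
      have h' := mul_left_cancel (h.trans (mul_one v).symm)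
      exact hne ((mul_eq_one_iff_eq_inv.1 h').trans (inv_self h2 eb))
  rw [hBv] at h
  exact hab ▸ ⟨h, hBv⟩

include h2 in
/-- The product of the three has no further fixed points. -/
theorem Frame.triple_fix [Finite V] (F : Frame V) {v : V} (h : F.A (F.B (F.C v)) = v) : v ∈ F.U := by
  obtain ⟨hAb, -, -⟩ := F.fixes F.hb
  obtain ⟨hAc, hBc, -⟩ := F.fixes F.hc
  by_cases hCv : F.C v = v
  · rw [hCv] at h; exact pair_fix h2 F.hA F.hB F.hab F.nab hAb h
  have e1 := (F.hC.2.1 v).resolve_left hCv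
  have hBv : F.B v = v * F.eb := by
    refine (F.hB.2.1 v).resolve_left fun hBv => ?_
    rw [e1, map_mul, hBv, hBc, map_mul, hAc] at h
    rcases F.hA.2.1 v with e2 | e2 <;> rw [e2] at h
    · exact F.hC.ne_one (mul_left_cancel (h.trans (mul_one v).symm))
    · rw [mul_assoc] at h
      have h' := mul_left_cancel (h.trans (mul_one v).symm)
      exact F.nca ((mul_eq_one_iff_eq_inv.1 (by rwa [mul_comm] at h')).trans (inv_self h2 _))
  rw [e1, map_mul, hBv, hBc, map_mul, map_mul, hAc, hAb] at h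
  have hAv : F.A v = v * F.ea := by
    refine (F.hA.2.1 v).resolve_left fun hAv => ?_
    rw [hAv, mul_assoc] at h
    have h' := mul_left_cancel (h.trans (mul_one v).symm)
    exact F.nbc ((mul_eq_one_iff_eq_inv.1 h').trans (inv_self h2 _))
  -- a point fixed by the third transvection only
  obtain ⟨x, hx, hxU⟩ : ∃ x, x ∈ fix F.C ∧ x ∉ F.U := by
    by_contra hne
    push Not at hne
    have h8 := F.hC.card_fix h2
    have := card_le_of_le (show fix F.C ≤ F.U from hne)
    rw [F.hU] at this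
    rw [F.hV] at h8
    omega
  have hxA : F.A x = x * F.ea :=
    (F.hA.2.1 x).resolve_left fun h' => hxU (F.hca ▸ ⟨hx, h'⟩)
  have hxB : F.B x = x * F.eb :=
    (F.hB.2.1 x).resolve_left fun h' => hxU (F.hbc ▸ ⟨h', hx⟩)
  have hU : v * x ∈ F.U := by
    rw [← F.hab]
    refine mem_inf.2 ⟨?_, ?_⟩ <;> rw [mem_fix, map_mul]
    · rw [hAv, hxA, mul_mul_mul_comm, h2, mul_one]
    · rw [hBv, hxB, mul_mul_mul_comm, h2, mul_one]
  refine absurd ?_ hCv
  have h3 := (F.fixes hU).2.2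
  rw [map_mul, show F.C x = x from hx] at h3
  exact mul_right_cancel h3

include h2 in
theorem square_single {A B : MulAut V} {ea eb : V} {U : Subgroup V} (hA : IsTv A ea) (hB : IsTv B eb)
    (hab : fix A ⊓ fix B = U) (hne : ea ≠ eb) {s w : V} (hAs : A s = s) (hs : B s = w * A w * s) :
    s ∈ U := by
  refine hab ▸ ⟨hAs, ?_⟩
  by_contra hm
  have e1 := (hB.2.1 s).resolve_left hm
  rw [e1, mul_comm s eb] at hs
  have h' := mul_right_cancel hs
  rcases hA.2.1 w with e2 | e2 <;> rw [e2] at h'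
  · exact hB.ne_one (h'.trans (h2 w))
  · rw [← mul_assoc, h2, one_mul] at h'
    exact hne h'.symm

include h2 in
/-- Construction of a frame. -/
theorem frame_of [Finite V] (hcard : Nat.card V ≤ 16) (A B C S P : MulAut V) {ea : V} (hA : IsTv A ea)
    (hAB : A * B = B * A) (hSA : S * A * S⁻¹ = B) (hSB : S * B * S⁻¹ = C) (hSC : S * C * S⁻¹ = A)
    (hPB : P * B * P⁻¹ = B) (hPA : P * A * P⁻¹ * A ≠ A * (P * A * P⁻¹)) :
    ∃ F : Frame V, F.A = A ∧ F.B = B ∧ F.C = C := by
  have hB : IsTv B (S ea) := hSA ▸ hA.conj S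
  have hC : IsTv C (S (S ea)) := hSB ▸ hB.conj S
  have hc3 : S (S (S ea)) = ea := (hSC ▸ hC.conj S : IsTv A (S (S (S ea)))).unique hA
  set eb := S ea with heb
  set ec := S eb with hec
  have hAeb : A eb = eb := by
    have h := hB.conj A
    rw [show A * B * A⁻¹ = B by rw [hAB, mul_inv_cancel_right]] at h
    exact h.unique hB
  have hBea : B ea = ea := by
    have h := hA.conj B
    rw [show B * A * B⁻¹ = A by rw [← hAB, mul_inv_cancel_right]] at h
    exact h.unique hA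
  set D := P * A * P⁻¹ with hD
  have hDt : IsTv D (P ea) := hA.conj P
  have hPeb : P eb = eb := (hPB ▸ hB.conj P : IsTv B (P eb)).unique hB
  have nab : ea ≠ eb := by
    intro e
    have hed : P ea = ea := by rw [e, hPeb]
    rw [hed] at hDt
    refine hPA (MulEquiv.ext fun v => ?_)
    show D (A v) = A (D v)
    rcases hA.2.1 v with e1 | e1 <;> rcases hDt.2.1 v with e2 | e2 <;>
      simp only [e1, e2, map_mul, hA.1, hDt.1]
  have hfix : fix A ≠ fix B := by
    intro e
    have hDA : ∀ v, D v = v ↔ A v = v := by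
      intro v
      rw [← mem_fix, ← mem_fix (σ := A), fix_conj, e, ← fix_conj, hPB]
    have hAed : A (P ea) = P ea := (hDA _).1 hDt.1
    have hDea : D ea = ea := (hDA _).2 hA.1
    refine hPA (MulEquiv.ext fun v => ?_)
    show D (A v) = A (D v)
    rcases hA.2.1 v with e1 | e1
    · rw [e1, (hDA v).2 e1, e1]
    · have hv : D v ≠ v := fun h' => hA.ne_one (by
        have := (hDA v).1 h'
        rw [e1] at this
        exact mul_left_cancel (this.trans (mul_one v).symm))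
      rw [e1, (hDt.2.1 v).resolve_left hv, map_mul, map_mul, e1, (hDt.2.1 v).resolve_left hv, hAed, hDea,
        mul_right_comm]
  -- the intersection of two axes
  have hA8 := hA.card_fix h2
  have hB8 := hB.card_fix h2
  have hle : Nat.card ↥(fix A ⊓ fix B) ≤ 4 := by
    obtain ⟨k, hk⟩ := card_dvd_of_le (inf_le_left : fix A ⊓ fix B ≤ fix A)
    have hne : k ≠ 1 := fun h1 => by
      rw [h1, mul_one] at hk
      refine hfix (eq_of_le_of_card_ge (inf_eq_left.1 (eq_of_le_of_card_ge inf_le_left hk.le)) ?_)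
      omega
    have hpos : 0 < Nat.card (fix A) := Nat.card_pos
    rcases k with _ | _ | k
    · omega
    · exact absurd rfl hne
    · nlinarith
  have hee : ea * eb ≠ 1 := fun h => nab ((mul_eq_one_iff_eq_inv.1 h).trans (inv_self h2 eb))
  have hsub : ({1, ea, eb, ea * eb} : Set V) ⊆ (fix A ⊓ fix B : Subgroup V) := by
    have h1 : ea ∈ fix A ⊓ fix B := ⟨hA.1, hBea⟩
    have h3 : eb ∈ fix A ⊓ fix B := ⟨hAeb, hB.1⟩
    rintro x (rfl | rfl | rfl | rfl)
    · exact one_mem _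
    · exact h1
    · exact h3
    · exact mul_mem h1 h3
  have h4 : ({1, ea, eb, ea * eb} : Set V).ncard = 4 := by
    rw [Set.ncard_eq_four]
    exact ⟨1, ea, eb, ea * eb, Ne.symm hA.ne_one, Ne.symm hB.ne_one, Ne.symm hee, nab,
      fun h => hB.ne_one (mul_left_cancel (h.symm.trans (mul_one ea).symm)),
      fun h => hA.ne_one (mul_right_cancel (h.symm.trans (one_mul eb).symm)), rfl⟩
  have hcU : ((fix A ⊓ fix B : Subgroup V) : Set V).ncard = Nat.card ↥(fix A ⊓ fix B) :=
    (Nat.card_coe_set_eq _).symm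
  have hset := Set.eq_of_subset_of_ncard_le hsub (by omega)
  have hU4 : Nat.card ↥(fix A ⊓ fix B) = 4 := by
    rw [← hcU, ← hset, h4]
  have hV : Nat.card V = 16 := by
    have hp : IsPGroup 2 V := fun v => ⟨1, by rw [pow_one, pow_two]; exact h2 v⟩
    haveI : Fact (Nat.Prime 2) := ⟨Nat.prime_two⟩
    obtain ⟨n, hn⟩ := IsPGroup.iff_card.1 hp
    obtain ⟨k, hk⟩ := card_dvd_of_le (inf_le_left : fix A ⊓ fix B ≤ fix A)
    have hne : k ≠ 1 := fun h1 => by
      rw [h1, mul_one] at hk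
      refine hfix (eq_of_le_of_card_ge (inf_eq_left.1 (eq_of_le_of_card_ge inf_le_left hk.le)) ?_)
      omega
    have hpos : 0 < Nat.card (fix A) := Nat.card_pos
    rw [hU4] at hk
    rcases k with _ | _ | k
    · omega
    · exact absurd rfl hne
    · omega
  -- transfer to the other pairs
  have hS : ∀ (X Y X' Y' : MulAut V), S * X * S⁻¹ = X' → S * Y * S⁻¹ = Y' → fix X ⊓ fix Y = fix A ⊓ fix B →
      Nat.card ↥(fix X' ⊓ fix Y') = 4 := by
    intro X Y X' Y' hX hY h
    have hmap : fix X' ⊓ fix Y' = (fix X ⊓ fix Y).map S.toMonoidHom := by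
      ext v
      simp only [mem_inf, mem_map, ← hX, ← hY, fix_conj]
      exact ⟨fun hv => ⟨S⁻¹ v, hv, by simp⟩, by
        rintro ⟨u, hu, rfl⟩
        simpa using hu⟩
    rw [hmap, card_map_of_injective (f := S.toMonoidHom) S.injective, h, hU4]
  have happ : ∀ (X X' : MulAut V), S * X * S⁻¹ = X' → ∀ v, X' (S v) = S (X v) := by
    intro X X' hX v
    rw [← hX]
    show S (X (S⁻¹ (S v))) = S (X v)
    rw [MulAut.inv_apply_self]
  have hBec : B ec = ec := by rw [hec, happ A B hSA, hAeb]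
  have hCeb : C eb = eb := by rw [heb, happ B C hSB, hBea]
  have hAec : A ec = ec := by rw [hec, happ C A hSC, hCeb]
  have hCea : C ea = ea := by rw [← hc3, happ B C hSB, hBec]
  have hcU' : ec ∈ fix A ⊓ fix B := ⟨hAec, hBec⟩
  have nbc : eb ≠ ec := fun e => nab (S.injective e)
  have nca : ec ≠ ea := fun e => nbc (S.injective (e.trans hc3.symm))
  have hprod : ea * eb = ec := by
    have hm : ec ∈ ({1, ea, eb, ea * eb} : Set V) := hset.ge hcU'
    rcases hm with e | e | e | e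
    · exact absurd e hC.ne_one
    · exact absurd e nca
    · exact absurd e.symm nbc
    · exact e.symm
  have hUC : ∀ u ∈ fix A ⊓ fix B, C u = u := by
    intro u hu
    have hm : u ∈ ({1, ea, eb, ea * eb} : Set V) := hset.ge hu
    rcases hm with rfl | rfl | rfl | rfl
    · exact map_one C
    · exact hCea
    · exact hCeb
    · rw [map_mul, hCea, hCeb]
  have hbc4 := hS A B B C hSA hSB rfl
  have hbc : fix B ⊓ fix C = fix A ⊓ fix B :=
    (eq_of_le_of_card_ge (show fix A ⊓ fix B ≤ fix B ⊓ fix C from fun u hu => ⟨hu.2, hUC u hu⟩) (by rw [hbc4, hU4])).symm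
  have hca4 := hS B C C A hSB hSC hbc
  have hca : fix C ⊓ fix A = fix A ⊓ fix B :=
    (eq_of_le_of_card_ge (show fix A ⊓ fix B ≤ fix C ⊓ fix A from fun u hu => ⟨hUC u hu, hu.1⟩) (by rw [hca4, hU4])).symm
  exact ⟨⟨A, B, C, ea, eb, ec, fix A ⊓ fix B, hA, hB, hC, rfl, hbc, hca, nab, nbc, nca, ⟨hA.1, hBea⟩,
    ⟨hAeb, hB.1⟩, hcU', hprod, hU4, hV⟩, rfl, rfl, rfl⟩

end Transvections

/-- First configuration: three transpositions. -/
def cfgOne : P6 × P6 × P6 :=
  (swap 0 1, swap 2 3, swap 4 5)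

/-- Second configuration: three triple transpositions. -/
def cfgTwo : P6 × P6 × P6 :=
  (swap 0 1 * swap 2 3 * swap 4 5, swap 0 1 * swap 2 4 * swap 3 5, swap 0 1 * swap 2 5 * swap 3 4)

/-- Coordinatewise addition modulo two on four points. -/
def xr (i j : Fin 4) : Fin 4 := ⟨(i.1 ^^^ j.1) % 4, Nat.mod_lt _ (by norm_num)⟩

theorem lin_fixed : ∀ a b c d : Fin 4, ¬ (a = 0 ∧ b = 0) → ¬ (c = 0 ∧ d = 0) → ¬ (a = c ∧ b = d) →
    ∃ x ∈ [((1 : Fin 4), a, c), (2, b, d), (3, xr a b, xr c d)],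
      x.2.1 = x.1 ∨ x.2.2 = x.1 ∨ xr x.2.1 x.2.2 = x.1 := by
  decide

theorem comm_cube : ∀ a b : Equiv.Perm (Fin 3), (a * b * a⁻¹ * b⁻¹) ^ 3 = 1 := by decide

theorem comm_cube' {α : Type*} [Finite α] (h : Nat.card α = 3) (a b : Equiv.Perm α) :
    (a * b * a⁻¹ * b⁻¹) ^ 3 = 1 := by
  let c := (Finite.equivFinOfCardEq h).permCongrHom
  apply c.injective
  rw [map_pow, map_mul, map_mul, map_mul, map_inv, map_inv, map_one]
  exact comm_cube _ _

theorem kill_data : ∀ k ∈ [swap (2 : Fin 6) 3 * swap 4 5, swap 2 4 * swap 3 5],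
    ∃ r ∈ [swap (2 : Fin 6) 3 * swap 3 4, swap 2 3 * swap 3 5, swap 2 4 * swap 4 5, swap 3 4 * swap 4 5,
        swap 2 3 * swap 2 4, swap 2 3 * swap 2 5],
      ∃ t ∈ [swap (2 : Fin 6) 3 * swap 3 4, swap 2 3 * swap 3 5, swap 2 4 * swap 4 5, swap 3 4 * swap 4 5,
        swap 2 3 * swap 2 4, swap 2 3 * swap 2 5],
      r * t * r⁻¹ * t⁻¹ = k ∧ k ^ 3 = k ∧ r * swap 0 1 = swap 0 1 * r ∧ t * swap 0 1 = swap 0 1 * t := by
  decide +kernel

theorem facts :
    (swap (0 : Fin 6) 1 * swap 0 1 = 1) ∧ swap (0 : Fin 6) 1 ≠ 1 ∧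
    (∀ k ∈ [swap (2 : Fin 6) 3 * swap 4 5, swap 2 4 * swap 3 5, swap 2 3 * swap 4 5 * (swap 2 4 * swap 3 5)],
      k ≠ 1 ∧ k * swap 0 1 = swap 0 1 * k ∧ swap 0 1 * k ≠ 1 ∧ swap 0 1 * k * (swap 0 1 * k) = 1) ∧
    swap (0 : Fin 6) 1 * (swap 2 3 * swap 4 5) = cfgTwo.1 ∧
    swap 3 4 * (swap (0 : Fin 6) 1 * (swap 2 4 * swap 3 5)) * (swap 3 4)⁻¹ = cfgTwo.1 ∧
    swap 3 5 * (swap (0 : Fin 6) 1 * (swap 2 3 * swap 4 5 * (swap 2 4 * swap 3 5))) * (swap 3 5)⁻¹ =
      cfgTwo.1 := by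
  decide +kernel

theorem tv_cases {V : Type*} [CommGroup V] [Finite V] (h2 : ∀ v : V, v * v = 1) (hcard : Nat.card V ≤ 16)
    (ρ : P6 →* MulAut V) (hρ : Function.Injective ρ) :
    (∃ e, IsTv (ρ cfgOne.1) e) ∨ (∃ e, IsTv (ρ cfgTwo.1) e) := by
  obtain ⟨ht2, ht1, hk, hu1, hu2, hu3⟩ := facts
  set t : P6 := swap 0 1 with ht
  set T := ρ t with hT
  have hne : ∀ x : P6, x ≠ 1 → ρ x ≠ 1 := fun x hx h => hx (hρ (h.trans (map_one ρ).symm))
  have hT2 : T * T = 1 := by rw [hT, ← map_mul, ht2, map_one]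
  by_cases hle : Nat.card (dif T).range ≤ 2
  · exact Or.inl (tv_of_range h2 hT2 (hne t ht1) hle)
  refine Or.inr ?_
  -- the difference map has range equal to the fixed subgroup, of order four
  have hTD : ∀ d ∈ (dif T).range, T d = d := by
    rintro _ ⟨v, rfl⟩
    show T (v * T v) = v * T v
    rw [map_mul, ← MulAut.mul_apply, hT2, MulAut.one_apply, mul_comm]
  have hp : IsPGroup 2 V := fun v => ⟨1, by rw [pow_one, pow_two]; exact h2 v⟩
  haveI : Fact (Nat.Prime 2) := ⟨Nat.prime_two⟩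
  obtain ⟨n, hn⟩ := IsPGroup.iff_card.1 (hp.to_subgroup (dif T).range)
  have hn2 : 2 ≤ n := by
    by_contra h
    exact hle (hn ▸ le_of_le_of_eq (Nat.pow_le_pow_right (by norm_num) (by omega : n ≤ 1)) (pow_one 2))
  have h4le : 4 ≤ Nat.card (dif T).range := hn ▸ Nat.pow_le_pow_right (by norm_num : 0 < 2) hn2
  have hi := (dif T).ker.card_mul_index
  rw [index_ker, dif_ker h2] at hi
  have hsub := card_le_of_le (show (dif T).range ≤ fix T from hTD)
  have hD4 : Nat.card (dif T).range = 4 := by nlinarith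
  have hDfix : (dif T).range = fix T := eq_of_le_of_card_ge hTD (by nlinarith)
  -- the double transpositions fix this subgroup
  let Ct := Subgroup.centralizer ({t} : Set P6)
  have hstab : ∀ x : P6, x ∈ Ct → ∀ d : V, (d ∈ (dif T).range ∧ d ≠ 1) →
      (ρ x d ∈ (dif T).range ∧ ρ x d ≠ 1) := by
    rintro x hx _ ⟨⟨v, rfl⟩, h1⟩
    refine ⟨⟨ρ x v, ?_⟩, fun h => h1 ((ρ x).injective (h.trans (map_one _).symm))⟩
    show ρ x v * T (ρ x v) = ρ x (v * T v)
    rw [map_mul, hT, ← MulAut.mul_apply, ← MulAut.mul_apply, ← map_mul, ← map_mul,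
      mem_centralizer_singleton_iff.1 hx]
  let P := {d : V // d ∈ (dif T).range ∧ d ≠ 1}
  have hP : Nat.card P = 3 := by
    have e : Nat.card P = (((dif T).range : Set V) \ {1}).ncard := Nat.card_coe_set_eq _
    have e' : ((dif T).range : Set V).ncard = Nat.card (dif T).range := (Nat.card_coe_set_eq _).symm
    rw [e, Set.ncard_sdiff_singleton_of_mem (one_mem _), e', hD4]
  let res : Ct →* Equiv.Perm P :=
    { toFun := fun x => (MulAut.toPerm V (ρ x)).subtypePerm fun d => ⟨fun h => by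
          have := hstab _ (inv_mem x.2) _ h
          rwa [map_inv, show ((ρ (x : P6))⁻¹) ((MulAut.toPerm V (ρ x)) d) = d from
            (ρ (x : P6)).symm_apply_apply d] at this, hstab _ x.2 d⟩
      map_one' := Equiv.ext fun d => Subtype.ext (by simp)
      map_mul' := fun x y => Equiv.ext fun d => Subtype.ext (by
        simp [Equiv.Perm.subtypePerm_apply]) }
  have hkill : ∀ k ∈ [swap (2 : Fin 6) 3 * swap 4 5, swap 2 4 * swap 3 5],
      ∀ d ∈ (dif T).range, ρ k d = d := by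
    intro k hk' d hd
    obtain ⟨r, -, u, -, hru, hk3, hr, hu⟩ := kill_data k hk'
    by_cases hd1 : d = 1
    · rw [hd1, map_one]
    let r' : Ct := ⟨r, mem_centralizer_singleton_iff.2 hr⟩
    let u' : Ct := ⟨u, mem_centralizer_singleton_iff.2 hu⟩
    have h3 := comm_cube' hP (res r') (res u')
    rw [← map_inv, ← map_inv, ← map_mul, ← map_mul, ← map_mul, ← map_pow,
      show (r' * u' * r'⁻¹ * u'⁻¹) ^ 3 = r' * u' * r'⁻¹ * u'⁻¹ from Subtype.ext (by
        show (r * u * r⁻¹ * u⁻¹) ^ 3 = r * u * r⁻¹ * u⁻¹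
        rw [hru, hk3])] at h3
    have h4 := congrArg Subtype.val (Equiv.Perm.ext_iff.1 h3 ⟨d, hd, hd1⟩)
    have h5 : ρ (r * u * r⁻¹ * u⁻¹) d = d := h4
    rwa [hru] at h5
  -- the maps induced on the subgroup
  set k1 : P6 := swap 2 3 * swap 4 5 with hk1
  set k2 : P6 := swap 2 4 * swap 3 5 with hk2
  set k3 : P6 := k1 * k2 with hk3
  have hfixk : ∀ k ∈ [k1, k2, k3], ∀ d ∈ (dif T).range, ρ k d = d := by
    intro k hk' d hd
    simp only [List.mem_cons, List.not_mem_nil, or_false] at hk'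
    rcases hk' with rfl | rfl | rfl
    · exact hkill _ (by simp) d hd
    · exact hkill _ (by simp) d hd
    · rw [hk3, map_mul, MulAut.mul_apply, hkill k2 (by simp) d hd, hkill k1 (by simp) d hd]
  have hψD : ∀ k ∈ [k1, k2, k3], ∀ v, dif (ρ k) v ∈ (dif T).range := by
    intro k hk' v
    rw [hDfix, ← dif_ker h2, MonoidHom.mem_ker]
    show dif T (v * ρ k v) = 1
    rw [map_mul]
    have : dif T (ρ k v) = dif T v := by
      conv_rhs => rw [← hfixk k hk' (dif T v) ⟨v, rfl⟩]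
      show ρ k v * T (ρ k v) = ρ k (v * T v)
      rw [map_mul, hT, ← MulAut.mul_apply, ← MulAut.mul_apply, ← map_mul, ← map_mul, (hk k hk').2.1]
    rw [this, h2]
  have hψker : ∀ k ∈ [k1, k2, k3], ∀ v, dif T v = 1 → dif (ρ k) v = 1 := by
    intro k hk' v hv
    have : v ∈ (dif T).range := by rw [hDfix, ← dif_ker h2]; exact hv
    show v * ρ k v = 1
    rw [hfixk k hk' v this, h2]
  have hψ3 : ∀ v, dif (ρ k3) v = dif (ρ k1) v * dif (ρ k2) v := by
    intro v
    have e1 : ρ k3 v = ρ k1 v * ρ k1 (dif (ρ k2) v) := by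
      rw [hk3, map_mul, MulAut.mul_apply, eq_mul_dif h2 (ρ k2) v, map_mul]
    rw [hfixk k1 (by simp) _ (hψD k2 (by simp) v)] at e1
    show v * ρ k3 v = v * ρ k1 v * dif (ρ k2) v
    rw [e1, mul_assoc]
  -- coordinates
  obtain ⟨⟨_, va, rfl⟩, hp1⟩ : ∃ p : (dif T).range, p ≠ 1 := by
    haveI : Nontrivial (dif T).range := Finite.one_lt_card_iff_nontrivial.1 (by omega)
    exact exists_ne 1
  obtain ⟨⟨_, vb, rfl⟩, hq1, hq⟩ : ∃ q : (dif T).range, q ≠ 1 ∧ (q : V) ≠ dif T va := by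
    by_contra hne
    push Not at hne
    have : ((dif T).range : Set V) ⊆ {1, dif T va} := fun x hx => by
      by_cases h : (⟨x, hx⟩ : (dif T).range) = 1
      · exact Or.inl (congrArg Subtype.val h)
      · exact Or.inr (hne _ h)
    have h4 := Set.ncard_le_ncard this
    have e' : ((dif T).range : Set V).ncard = Nat.card (dif T).range := (Nat.card_coe_set_eq _).symm
    have h5 := Set.ncard_insert_le (1 : V) {dif T va}
    rw [Set.ncard_singleton] at h5
    omega
  set pa := dif T va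
  set pb := dif T vb
  have ha1 : pa ≠ 1 := fun h => hp1 (Subtype.ext h)
  have hb1 : pb ≠ 1 := fun h => hq1 (Subtype.ext h)
  have hab : pa * pb ≠ 1 := fun h => hq ((mul_eq_one_iff_eq_inv.1 h).trans (inv_self h2 pb)).symm
  let ι : Fin 4 → V := ![1, pa, pb, pa * pb]
  have hιinj : Function.Injective ι := by
    intro i j h
    fin_cases i <;> fin_cases j <;> simp [ι] at h <;> first
      | rfl
      | (exfalso; exact ha1 h) | (exfalso; exact ha1 h.symm)
      | (exfalso; exact hb1 h) | (exfalso; exact hb1 h.symm)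
      | (exfalso; exact hab h) | (exfalso; exact hab h.symm)
      | (exfalso; exact hq h) | (exfalso; exact hq h.symm)
  have hιmem : ∀ i, ι i ∈ (dif T).range := by
    intro i
    fin_cases i
    · exact one_mem _
    · exact ⟨va, rfl⟩
    · exact ⟨vb, rfl⟩
    · exact mul_mem ⟨va, rfl⟩ ⟨vb, rfl⟩
  have hιsurj : ∀ d ∈ (dif T).range, ∃ i, ι i = d := by
    intro d hd
    have hsub' : Set.range ι ⊆ (dif T).range := by rintro _ ⟨i, rfl⟩; exact hιmem i
    have hc : (Set.range ι).ncard = 4 := by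
      rw [Set.ncard_range_of_injective hιinj, Nat.card_fin]
    have e' : ((dif T).range : Set V).ncard = Nat.card (dif T).range := (Nat.card_coe_set_eq _).symm
    exact (Set.eq_of_subset_of_ncard_le hsub' (by omega)).ge hd
  have hιxr : ∀ i j, ι (xr i j) = ι i * ι j := by
    intro i j
    fin_cases i <;> fin_cases j <;> simp [ι, xr, h2, mul_left_comm, mul_comm]
    all_goals rw [← mul_assoc]; simp [h2]
  choose g hg using hιsurj
  let a := g _ (hψD k1 (by simp) va)
  let b := g _ (hψD k1 (by simp) vb)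
  let c := g _ (hψD k2 (by simp) va)
  let d := g _ (hψD k2 (by simp) vb)
  have ea : ι a = dif (ρ k1) va := hg _ _
  have eb : ι b = dif (ρ k1) vb := hg _ _
  have ec : ι c = dif (ρ k2) va := hg _ _
  have ed : ι d = dif (ρ k2) vb := hg _ _
  have htriv : ∀ k ∈ [k1, k2, k3], ¬ (dif (ρ k) va = 1 ∧ dif (ρ k) vb = 1) := by
    rintro k hk' ⟨h1, h1'⟩
    refine hne k (hk k hk').1 (MulEquiv.ext fun v => ?_)
    rw [MulAut.one_apply]
    obtain ⟨i, hi'⟩ : ∃ i, ι i = dif T v := ⟨g _ ⟨v, rfl⟩, hg _ _⟩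
    obtain ⟨w, hw, hw'⟩ : ∃ w, dif T w = ι i ∧ dif (ρ k) w = 1 := by
      fin_cases i
      · exact ⟨1, map_one _, map_one _⟩
      · exact ⟨va, rfl, h1⟩
      · exact ⟨vb, rfl, h1'⟩
      · exact ⟨va * vb, map_mul _ _ _, by rw [map_mul, h1, h1', one_mul]⟩
    have hz : dif (ρ k) (v * w) = 1 := hψker k hk' _ (by rw [map_mul, hw, hi', h2])
    rw [map_mul, hw', mul_one] at hz
    rw [eq_mul_dif h2 (ρ k) v, hz, mul_one]
  obtain ⟨x, hx, hxk⟩ := lin_fixed a b c d
    (fun ⟨h, h'⟩ => htriv k1 (by simp) ⟨by rw [← ea, h]; rfl, by rw [← eb, h']; rfl⟩)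
    (fun ⟨h, h'⟩ => htriv k2 (by simp) ⟨by rw [← ec, h]; rfl, by rw [← ed, h']; rfl⟩)
    (fun ⟨h, h'⟩ => htriv k3 (by simp) ⟨by rw [hψ3, ← ea, ← ec, h, h2], by rw [hψ3, ← eb, ← ed, h', h2]⟩)
  obtain ⟨w, hw, hw1, hw2⟩ : ∃ w, dif T w = ι x.1 ∧ dif (ρ k1) w = ι x.2.1 ∧ dif (ρ k2) w = ι x.2.2 := by
    simp only [List.mem_cons, List.not_mem_nil, or_false] at hx
    rcases hx with rfl | rfl | rfl
    · exact ⟨va, rfl, ea.symm, ec.symm⟩
    · exact ⟨vb, rfl, eb.symm, ed.symm⟩
    · exact ⟨va * vb, by rw [map_mul]; rfl, by rw [map_mul, hιxr, ea, eb], by rw [map_mul, hιxr, ec, ed]⟩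
  have hx0 : ι x.1 ≠ 1 := by
    simp only [List.mem_cons, List.not_mem_nil, or_false] at hx
    rcases hx with rfl | rfl | rfl
    · exact ha1
    · exact hb1
    · exact hab
  obtain ⟨k, hk', hkw⟩ : ∃ k ∈ [k1, k2, k3], dif (ρ k) w = dif T w := by
    rcases hxk with h | h | h
    · exact ⟨k1, by simp, by rw [hw1, hw, h]⟩
    · exact ⟨k2, by simp, by rw [hw2, hw, h]⟩
    · exact ⟨k3, by simp, by rw [hψ3, hw1, hw2, hw, ← hιxr, h]⟩
  set u := ρ (t * k) with hu
  have hdu : ∀ v, dif u v = dif T v * dif (ρ k) v := by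
    intro v
    show v * u v = v * T v * dif (ρ k) v
    rw [hu, map_mul, MulAut.mul_apply, eq_mul_dif h2 (ρ k) v, map_mul, hTD _ (hψD k hk' v), mul_assoc]
  have hrk : Nat.card (dif u).range ≤ 2 := by
    have hmul := (dif u).ker.card_mul_index
    rw [index_ker] at hmul
    have hker : fix T ≤ (dif u).ker := fun v hv => by
      have h1 : dif T v = 1 := by rw [← MonoidHom.mem_ker, dif_ker h2]; exact hv
      rw [MonoidHom.mem_ker, hdu, h1, one_mul, hψker k hk' v h1]
    have hw' : w ∈ (dif u).ker := by rw [MonoidHom.mem_ker, hdu, hkw, h2]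
    have hwT : w ∉ fix T := by
      rw [← dif_ker h2, MonoidHom.mem_ker, hw]; exact hx0
    have h8 : 2 * Nat.card (fix T) ≤ Nat.card (dif u).ker := by
      obtain ⟨m, hm⟩ := card_dvd_of_le hker
      have : m ≠ 1 := fun h => hwT (by
        rw [h, mul_one] at hm
        exact (eq_of_le_of_card_ge hker hm.le).ge hw')
      have : 0 < Nat.card (dif u).ker := Nat.card_pos
      rcases m with _ | _ | m
      · omega
      · omega
      · rw [hm]; nlinarith
    rw [← hDfix, hD4] at h8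
    nlinarith
  have hutv : ∃ e, IsTv u e := tv_of_range h2 (by rw [hu, ← map_mul, (hk k hk').2.2.2, map_one])
    (hne _ (hk k hk').2.2.1) hrk
  obtain ⟨e, he⟩ := hutv
  simp only [List.mem_cons, List.not_mem_nil, or_false] at hk'
  rcases hk' with rfl | rfl | rfl
  · exact ⟨e, hu1 ▸ he⟩
  · exact ⟨ρ (swap 3 4) e, by rw [← hu2, map_mul, map_mul ρ, map_inv]; exact he.conj _⟩
  · exact ⟨ρ (swap 3 5) e, by rw [← hu3, map_mul, map_mul ρ, map_inv]; exact he.conj _⟩

/-- The seven involutions together with the identity. -/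
def wList (c : P6 × P6 × P6) : List P6 :=
  [1, c.1, c.2.1, c.2.2, c.1 * c.2.1, c.2.1 * c.2.2, c.2.2 * c.1, c.1 * (c.2.1 * c.2.2)]

/-- Properties of a configuration. -/
def CfgOK (c : P6 × P6 × P6) (σ π : P6) : Prop :=
  (c.1 * c.2.1 = c.2.1 * c.1) ∧ σ * c.1 * σ⁻¹ = c.2.1 ∧ σ * c.2.1 * σ⁻¹ = c.2.2 ∧ σ * c.2.2 * σ⁻¹ = c.1 ∧
    π * c.2.1 * π⁻¹ = c.2.1 ∧ π * c.1 * π⁻¹ * c.1 ≠ c.1 * (π * c.1 * π⁻¹) ∧ (wList c).Nodup ∧
    (∀ x ∈ wList c, x * x = 1) ∧ (∀ x ∈ wList c, ∀ y ∈ wList c, x * y ∈ wList c) ∧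
    c.2.1 * c.2.2 = c.2.2 * c.2.1 ∧ c.2.2 * c.1 = c.1 * c.2.2

theorem cfgOne_ok : CfgOK cfgOne (swap 0 4 * swap 0 2 * (swap 1 5 * swap 1 3)) (swap 1 4) := by
  refine ⟨?_, ?_, ?_, ?_, ?_, ?_, ?_, ?_, ?_, ?_, ?_⟩ <;> decide +kernel

theorem cfgTwo_ok : CfgOK cfgTwo (swap 3 5 * swap 3 4) (swap 0 2 * swap 1 4) := by
  refine ⟨?_, ?_, ?_, ?_, ?_, ?_, ?_, ?_, ?_, ?_, ?_⟩ <;> decide +kernel

theorem config {V : Type*} [CommGroup V] [Finite V] (h2 : ∀ v : V, v * v = 1) (hcard : Nat.card V ≤ 16)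
    (ρ : P6 →* MulAut V) (hρ : Function.Injective ρ) :
    ∃ (c : P6 × P6 × P6) (σ π : P6) (F : Frame V), CfgOK c σ π ∧
      F.A = ρ c.1 ∧ F.B = ρ c.2.1 ∧ F.C = ρ c.2.2 := by
  have key : ∀ (c : P6 × P6 × P6) (σ π : P6), CfgOK c σ π → (∃ e, IsTv (ρ c.1) e) →
      ∃ F : Frame V, F.A = ρ c.1 ∧ F.B = ρ c.2.1 ∧ F.C = ρ c.2.2 := by
    rintro c σ π ⟨h1, h3, h4, h5, h6, h7, -, -, -, -, -⟩ ⟨e, he⟩
    refine frame_of h2 hcard (ρ c.1) (ρ c.2.1) (ρ c.2.2) (ρ σ) (ρ π) he ?_ ?_ ?_ ?_ ?_ ?_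
    · rw [← map_mul, h1, map_mul]
    · rw [← map_inv, ← map_mul, ← map_mul, h3]
    · rw [← map_inv, ← map_mul, ← map_mul, h4]
    · rw [← map_inv, ← map_mul, ← map_mul, h5]
    · rw [← map_inv, ← map_mul, ← map_mul, h6]
    · rw [← map_inv, ← map_mul, ← map_mul, ← map_mul, ← map_mul]
      exact fun h => h7 (hρ h)
  rcases tv_cases h2 hcard ρ hρ with h | h
  · obtain ⟨F, hF⟩ := key _ _ _ cfgOne_ok h
    exact ⟨_, _, _, F, cfgOne_ok, hF⟩
  · obtain ⟨F, hF⟩ := key _ _ _ cfgTwo_ok h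
    exact ⟨_, _, _, F, cfgTwo_ok, hF⟩

theorem five_section {E : Type*} [Group E] [Finite E] (V : Subgroup E) [V.Normal]
    (hVc : ∀ a ∈ V, ∀ b ∈ V, a * b = b * a) (hV2 : ∀ a ∈ V, a * a = 1) (hcard : Nat.card V ≤ 16)
    (hself : ∀ x : E, (∀ v ∈ V, x * v = v * x) → x ∈ V) {Q : Type*} [Group Q] (q : E →* Q)
    (hqs : Function.Surjective q) (hqk : q.ker = V) (g : P6 →* Q) (hg : Function.Injective g) :
    ∃ (H : Subgroup E) (U : Subgroup H) (_ : U.Normal), Nat.card (H ⧸ U) = 32 ∧ ∀ a : H ⧸ U, a ^ 2 = 1 := by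
  letI : CommGroup V :=
    { (inferInstance : Group V) with mul_comm := fun a b => Subtype.ext (hVc a a.2 b b.2) }
  have h2 : ∀ v : V, v * v = 1 := fun v => Subtype.ext (hV2 v v.2)
  let cj : E →* MulAut V := MulAut.conjNormal
  have hle : q.ker ≤ cj.ker := by
    intro x hx
    rw [hqk] at hx
    rw [MonoidHom.mem_ker]
    refine MulEquiv.ext fun v => Subtype.ext ?_
    show x * (v : E) * x⁻¹ = v
    rw [hVc x hx v v.2, mul_inv_cancel_right]
  let ρQ : Q →* MulAut V :=
    q.liftOfRightInverse (Function.surjInv hqs) (Function.rightInverse_surjInv hqs) ⟨cj, hle⟩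
  have hρQ : ∀ x, ρQ (q x) = cj x := fun x =>
    q.liftOfRightInverse_comp_apply _ (Function.rightInverse_surjInv hqs) ⟨cj, hle⟩ x
  let ρ := ρQ.comp g
  have hρ : Function.Injective ρ := by
    refine (injective_iff_map_eq_one _).2 fun z hz => ?_
    obtain ⟨x, hx⟩ := hqs (g z)
    have h1 : cj x = 1 := by rw [← hρQ, hx]; exact hz
    have hxV : x ∈ V := hself x fun v hv => by
      have h3 : (cj x) ⟨v, hv⟩ = ⟨v, hv⟩ := by rw [h1]; rfl
      exact mul_inv_eq_iff_eq_mul.1 (congrArg Subtype.val h3)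
    rw [← hqk, MonoidHom.mem_ker, hx] at hxV
    exact hg (hxV.trans (map_one g).symm)
  obtain ⟨c, σ, π, F, hok, hFA, hFB, hFC⟩ := config h2 hcard ρ hρ
  obtain ⟨hab, -, -, -, -, -, hnd, hinv, hclos, hbc, hca⟩ := hok
  have hact : ∀ (x : E) (z : P6), q x = g z → ∀ v : V, ((ρ z v : V) : E) = x * (v : E) * x⁻¹ := by
    intro x z hx v
    show (((ρQ (g z)) v : V) : E) = _
    rw [← hx, hρQ]
    rfl
  let W : Subgroup P6 :=
    { carrier := {x | x ∈ wList c}
      one_mem' := by simp [wList]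
      mul_mem' := fun ha hb => hclos _ ha _ hb
      inv_mem' := fun {x} hx => by
        show x⁻¹ ∈ wList c
        rw [inv_eq_of_mul_eq_one_right (hinv x hx)]; exact hx }
  have hW8 : Nat.card W = 8 := by
    classical
    rw [Nat.card_congr (Equiv.subtypeEquivRight fun x => show x ∈ W ↔ x ∈ (wList c).toFinset from
      List.mem_toFinset.symm), Nat.card_eq_fintype_card, Fintype.card_coe, List.toFinset_card_of_nodup hnd]
    rfl
  set H : Subgroup E := (W.map g).comap q with hH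
  have hVH : V ≤ H := fun x hx => by
    rw [hH, mem_comap, show q x = 1 by rw [← MonoidHom.mem_ker, hqk]; exact hx]; exact one_mem _
  have hHcard : Nat.card H = 8 * Nat.card V := by
    have h1 : (W.map g).index = H.index := (index_comap_of_surjective _ hqs).symm
    have h3 := H.card_mul_index
    have h4 := (W.map g).card_mul_index
    have h5 := q.ker.card_mul_index
    rw [index_ker, hqk, MonoidHom.range_eq_top.2 hqs, card_top] at h5
    rw [card_map_of_injective hg, hW8, h1] at h4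
    have : 0 < H.index := Nat.pos_of_ne_zero index_ne_zero_of_finite
    nlinarith
  let U0 : Subgroup E := F.U.map V.subtype
  have hfixU : ∀ z ∈ wList c, ∀ u ∈ F.U, ρ z u = u := by
    intro z hz u hu
    obtain ⟨f1, f2, f3⟩ := F.fixes hu
    rw [hFA] at f1; rw [hFB] at f2; rw [hFC] at f3
    simp only [wList, List.mem_cons, List.not_mem_nil, or_false] at hz
    rcases hz with rfl | rfl | rfl | rfl | rfl | rfl | rfl | rfl <;>
      simp only [map_one, map_mul, MulAut.one_apply, MulAut.mul_apply, f1, f2, f3]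
  have hlift : ∀ h ∈ H, ∃ z ∈ wList c, q h = g z := by
    rintro h ⟨z, hz, hzh⟩
    exact ⟨z, hz, hzh.symm⟩
  let U : Subgroup H := U0.subgroupOf H
  have hUn : U.Normal := by
    refine ⟨fun a ha b => ?_⟩
    obtain ⟨u, hu, hua⟩ := ha
    obtain ⟨z, hz, hzb⟩ := hlift b b.2
    refine ⟨ρ z u, by rw [SetLike.mem_coe, hfixU z hz u hu]; exact hu, ?_⟩
    show ((ρ z u : V) : E) = (b : E) * (a : E) * (b : E)⁻¹
    rw [hact _ _ hzb u, show ((u : V) : E) = (a : E) from hua]
  haveI := hUn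
  -- squares
  have hsq : ∀ h ∈ H, h * h ∈ U0 := by
    intro h hh
    obtain ⟨z, hz, hzh⟩ := hlift h hh
    have hsV : h * h ∈ V := by rw [← hqk, MonoidHom.mem_ker, map_mul, hzh, ← map_mul, hinv z hz, map_one]
    set s : V := ⟨h * h, hsV⟩
    suffices s ∈ F.U from ⟨s, this, rfl⟩
    have hfs : ρ z s = s := Subtype.ext (by rw [hact h z hzh s]; show h * (h * h) * h⁻¹ = h * h; group)
    have hsingle : ∀ (a b : P6) (ea eb : V), z = a → a * b = b * a → IsTv (ρ a) ea → IsTv (ρ b) eb →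
        fix (ρ a) ⊓ fix (ρ b) = F.U → ea ≠ eb → s ∈ F.U := by
      rintro a b ea eb rfl hcomm hA hB hU hne
      obtain ⟨y, hy⟩ := hqs (g b)
      have hw : y * h * y⁻¹ * h⁻¹ ∈ V := by
        rw [← hqk, MonoidHom.mem_ker, map_mul, map_mul, map_mul, map_inv, map_inv, hy, hzh, ← map_inv, ← map_inv,
          ← map_mul, ← map_mul, ← map_mul, ← hcomm, mul_inv_cancel_right, mul_inv_cancel, map_one]
      refine square_single h2 hA hB hU hne (w := ⟨_, hw⟩) hfs (Subtype.ext ?_)
      rw [Subgroup.coe_mul, Subgroup.coe_mul, hact y b hy s, hact h z hzh ⟨_, hw⟩]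
      show y * (h * h) * y⁻¹ = y * h * y⁻¹ * h⁻¹ * (h * (y * h * y⁻¹ * h⁻¹) * h⁻¹) * (h * h)
      group
    have hA' : IsTv (ρ c.1) F.ea := hFA ▸ F.hA
    have hB' : IsTv (ρ c.2.1) F.eb := hFB ▸ F.hB
    have hC' : IsTv (ρ c.2.2) F.ec := hFC ▸ F.hC
    have eab : fix (ρ c.1) ⊓ fix (ρ c.2.1) = F.U := by rw [← hFA, ← hFB]; exact F.hab
    have ebc : fix (ρ c.2.1) ⊓ fix (ρ c.2.2) = F.U := by rw [← hFB, ← hFC]; exact F.hbc
    have eca : fix (ρ c.2.2) ⊓ fix (ρ c.1) = F.U := by rw [← hFC, ← hFA]; exact F.hca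
    simp only [wList, List.mem_cons, List.not_mem_nil, or_false] at hz
    rcases hz with e | e | e | e | e | e | e | e
    · have hhV : h ∈ V := by rw [← hqk, MonoidHom.mem_ker, hzh, e, map_one]
      rw [show s = 1 from Subtype.ext (hV2 h hhV)]
      exact one_mem _
    · exact hsingle c.1 c.2.1 F.ea F.eb e hab hA' hB' eab F.nab
    · exact hsingle c.2.1 c.2.2 F.eb F.ec e hbc hB' hC' ebc F.nbc
    · exact hsingle c.2.2 c.1 F.ec F.ea e hca hC' hA' eca F.nca
    · rw [e, map_mul, MulAut.mul_apply] at hfs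
      exact pair_fix h2 hA' hB' eab F.nab (hFA ▸ (F.fixes F.hb).1) hfs
    · rw [e, map_mul, MulAut.mul_apply] at hfs
      exact pair_fix h2 hB' hC' ebc F.nbc (hFB ▸ (F.fixes F.hc).2.1) hfs
    · rw [e, map_mul, MulAut.mul_apply] at hfs
      exact pair_fix h2 hC' hA' eca F.nca (hFC ▸ (F.fixes F.ha).2.2) hfs
    · rw [e, map_mul, map_mul, MulAut.mul_apply, MulAut.mul_apply, ← hFA, ← hFB, ← hFC] at hfs
      exact F.triple_fix h2 hfs
  refine ⟨H, U, hUn, ?_, fun a => ?_⟩
  · have h1 := U.card_eq_card_quotient_mul_card_subgroup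
    have hUle : U0 ≤ H := (map_subtype_le _).trans hVH
    rw [hHcard, F.hV, Nat.card_congr (subgroupOfEquivOfLe hUle).toEquiv,
      card_map_of_injective V.subtype_injective, F.hU] at h1
    omega
  · induction a using QuotientGroup.induction_on with | _ a
    rw [← QuotientGroup.mk_pow, QuotientGroup.eq_one_iff, pow_two]
    exact hsq a a.2

theorem frattini_faithful {X : Type*} [Group X] [Finite X] (hc : Cfsg.IsPConstrained 2 X)
    (hO : Cfsg.oddCore X = ⊥) (x : X)
    (hx : ∀ r ∈ Cfsg.pCore 2 X, x * r * x⁻¹ * r⁻¹ ∈ (frattini (Cfsg.pCore 2 X)).map (Cfsg.pCore 2 X).subtype) :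
    x ∈ Cfsg.pCore 2 X := by
  haveI : Fact (Nat.Prime 2) := ⟨Nat.prime_two⟩
  set R := Cfsg.pCore 2 X with hR
  haveI : R.Normal := Solv.pCore_normal 2
  have hRp : IsPGroup 2 R := Solv.pCore_isPGroup 2
  have hcent := (Fusion.isPConstrained_iff_of_core_eq_bot (p := 2) (G := X) hO).1 hc
  set F := (frattini R).map R.subtype with hF
  haveI : F.Normal := inferInstance
  let K : Subgroup X := (Subgroup.centralizer (R.map (QuotientGroup.mk' F) : Set (X ⧸ F))).comap (QuotientGroup.mk' F)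
  haveI : (R.map (QuotientGroup.mk' F)).Normal := Subgroup.Normal.map inferInstance _ (QuotientGroup.mk'_surjective F)
  haveI : K.Normal := inferInstance
  have hmemK : ∀ y : X, y ∈ K → ∀ r ∈ R, y * r * y⁻¹ * r⁻¹ ∈ F := by
    intro y hy r hr
    have h1 := hy _ ⟨r, hr, rfl⟩
    refine (QuotientGroup.eq_one_iff _).1 ?_
    simp only [QuotientGroup.mk_mul, QuotientGroup.mk_inv]
    rw [show (QuotientGroup.mk y : X ⧸ F) * QuotientGroup.mk r = QuotientGroup.mk r * QuotientGroup.mk y from h1.symm,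
      mul_inv_cancel_right, mul_inv_cancel]
  have hxK : x ∈ K := by
    rintro _ ⟨r, hr, rfl⟩
    have h1 := (QuotientGroup.eq_one_iff _).2 (hx r hr)
    simp only [QuotientGroup.mk_mul, QuotientGroup.mk_inv] at h1
    rw [mul_inv_eq_one, mul_inv_eq_iff_eq_mul] at h1
    exact h1.symm
  have hK : K ≤ R := by
    refine Fusion.le_pCore (fun k => ?_)
    obtain ⟨n, m, hm, hnm⟩ := Nat.exists_eq_pow_mul_and_not_dvd (orderOf_pos (k : X)).ne' 2 (by norm_num)
    set g := (k : X) ^ 2 ^ n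
    have hg : orderOf g = m := by
      rw [orderOf_pow_of_dvd (by positivity) (hnm ▸ dvd_mul_right _ _), hnm, Nat.mul_div_cancel_left _ (by positivity)]
    have hgk : g ∈ K := pow_mem k.2 _
    have hco : (orderOf g).Coprime 2 := hg ▸ (Nat.prime_two.coprime_iff_not_dvd.2 hm).symm
    have hgc : g ∈ Subgroup.centralizer (R : Set X) := by
      refine Solv.centralizes_of_frattini R hRp g ?_ hco fun r hr => ?_
      · rw [Subgroup.normalizer_eq_top]; trivial
      · have h1 := inv_mem (hmemK g hgk r hr)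
        simpa [hF, commutatorElement_def, mul_assoc] using h1
    obtain ⟨j, hj⟩ := hRp ⟨g, hcent hgc⟩
    have hj' : g ^ 2 ^ j = 1 := congrArg Subtype.val hj
    have : m = 1 := hg ▸ Nat.eq_one_of_dvd_coprimes (hco.pow_right j) dvd_rfl (orderOf_dvd_of_pow_eq_one hj')
    exact ⟨n, Subtype.ext (by
      rw [Subgroup.coe_pow, OneMemClass.coe_one]
      exact orderOf_eq_one_iff.1 (hg.trans this))⟩
  exact hK hxK

theorem rank_five {X : Type*} [Group X] [Finite X] (hc : Cfsg.IsPConstrained 2 X) (hO : Cfsg.oddCore X = ⊥)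
    (h4 : Cfsg.SectionalPRankLE 2 4 ↥(Cfsg.pCore 2 X)) (hX : Cfsg.SectionalPRankLE 2 4 X)
    (g : P6 →* X ⧸ Cfsg.pCore 2 X) (hg : Function.Injective g) : False := by
  haveI : Fact (Nat.Prime 2) := ⟨Nat.prime_two⟩
  set R := Cfsg.pCore 2 X with hR
  have hRp : IsPGroup 2 R := Solv.pCore_isPGroup 2
  set F := (frattini R).map R.subtype with hF
  haveI : F.Normal := inferInstance
  let π := QuotientGroup.mk' F
  have hπ : Function.Surjective π := QuotientGroup.mk'_surjective F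
  haveI : (R.map π).Normal := Subgroup.Normal.map inferInstance _ hπ
  have hFR : F ≤ R := map_subtype_le _
  -- the Frattini quotient
  let θ : R →* R.map π := π.subgroupMap R
  have hθ : Function.Surjective θ := π.subgroupMap_surjective R
  have hθk : θ.ker = frattini R := by
    ext r
    rw [MonoidHom.mem_ker, Subtype.ext_iff]
    show π (r : X) = 1 ↔ _
    rw [QuotientGroup.mk'_apply, QuotientGroup.eq_one_iff, hF]
    exact ⟨fun ⟨s, hs, e⟩ => R.subtype_injective e ▸ hs, fun h => ⟨r, h, rfl⟩⟩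
  let ev := (QuotientGroup.quotientMulEquivOfEq hθk.symm).trans (QuotientGroup.quotientKerEquivOfSurjective θ hθ)
  have hcomm := Solv.quotient_mul_comm _ (Solv.commutatorElement_mem_frattini hRp)
  have hsq : ∀ a : R ⧸ frattini R, a * a = 1 := by
    intro a
    induction a using QuotientGroup.induction_on with | _ a
    rw [← QuotientGroup.mk_mul, ← pow_two]
    exact (QuotientGroup.eq_one_iff _).2 (Solv.pow_mem_frattini hRp a)
  have hVc : ∀ a ∈ R.map π, ∀ b ∈ R.map π, a * b = b * a := by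
    intro a ha b hb
    have h := congrArg ev (hcomm (ev.symm ⟨a, ha⟩) (ev.symm ⟨b, hb⟩))
    rw [map_mul, map_mul, MulEquiv.apply_symm_apply, MulEquiv.apply_symm_apply] at h
    exact congrArg Subtype.val h
  have hV2 : ∀ a ∈ R.map π, a * a = 1 := by
    intro a ha
    have h := congrArg ev (hsq (ev.symm ⟨a, ha⟩))
    rw [map_mul, map_one, MulEquiv.apply_symm_apply] at h
    exact congrArg Subtype.val h
  have hcard : Nat.card (R.map π) ≤ 16 := by
    rw [← Nat.card_congr ev.toEquiv]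
    let e : (⊤ : Subgroup R) ≃* R := Subgroup.topEquiv
    haveI : ((frattini R).comap e.toMonoidHom).Normal := inferInstance
    let E : ((⊤ : Subgroup R) ⧸ (frattini R).comap e.toMonoidHom) ≃* R ⧸ frattini R :=
      QuotientGroup.congr _ _ e (Subgroup.map_comap_eq_self_of_surjective e.surjective _)
    have := h4 ⊤ ((frattini R).comap e.toMonoidHom) ⊤ ⟨⟨fun a b => Subtype.ext (E.injective (by
      rw [Subgroup.coe_mul, Subgroup.coe_mul, map_mul, map_mul, hcomm]))⟩⟩
      fun a _ => E.injective (by rw [map_pow, map_one, pow_two, hsq])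
    rwa [Subgroup.card_top, Nat.card_congr E.toEquiv] at this
  have hself : ∀ x : X ⧸ F, (∀ v ∈ R.map π, x * v = v * x) → x ∈ R.map π := by
    intro x hx
    obtain ⟨y, rfl⟩ := hπ x
    refine ⟨y, frattini_faithful hc hO y fun r hr => ?_, rfl⟩
    refine (QuotientGroup.eq_one_iff _).1 ?_
    show π (y * r * y⁻¹ * r⁻¹) = 1
    rw [map_mul, map_mul, map_mul, map_inv, map_inv, hx _ ⟨r, hr, rfl⟩, mul_inv_cancel_right, mul_inv_cancel]
  let q : X ⧸ F →* X ⧸ R := QuotientGroup.map F R (MonoidHom.id X) hFR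
  have hqs : Function.Surjective q := fun y => by
    induction y using QuotientGroup.induction_on with | _ y
    exact ⟨π y, rfl⟩
  have hqk : q.ker = R.map π := by
    ext y
    induction y using QuotientGroup.induction_on with | _ y
    constructor
    · intro h
      exact ⟨y, (QuotientGroup.eq_one_iff y).1 h, rfl⟩
    · rintro ⟨r, hr, e⟩
      rw [MonoidHom.mem_ker, ← e]
      exact (QuotientGroup.eq_one_iff r).2 hr
  obtain ⟨H, U, hUn, h32, hexp⟩ := five_section (R.map π) hVc hV2 hcard hself q hqs hqk g hg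
  haveI := hUn
  let H' := H.comap π
  let φ : H' →* H ⧸ U := (QuotientGroup.mk' U).comp (π.subgroupComap H)
  have hφ : Function.Surjective φ :=
    (QuotientGroup.mk'_surjective U).comp (MonoidHom.subgroupComap_surjective_of_surjective π H hπ)
  let E' := QuotientGroup.quotientKerEquivOfSurjective φ hφ
  have hle := hX H' φ.ker ⊤ ⟨⟨fun a b => Subtype.ext (E'.injective (by
      rw [Subgroup.coe_mul, Subgroup.coe_mul, map_mul, map_mul]
      have hc' : ∀ x y : H ⧸ U, x * y = y * x := fun x y => by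
        have hx := hexp x; have hy := hexp y; have hxy := hexp (x * y)
        rw [pow_two] at hx hy hxy
        calc x * y = (x * y)⁻¹ := (inv_eq_of_mul_eq_one_right hxy).symm
          _ = y * x := by rw [mul_inv_rev, inv_eq_of_mul_eq_one_right hx, inv_eq_of_mul_eq_one_right hy]
      exact hc' _ _))⟩⟩ fun a _ => E'.injective (by rw [map_pow, map_one, hexp])
  rw [Subgroup.card_top, Nat.card_congr E'.toEquiv, h32] at hle
  norm_num at hle

/-- The symmetric group of degree six inside the alternating group of degree eight. -/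
theorem six_in_eight : ∃ j : P6 →* ↥(alternatingGroup (Fin 8)), Function.Injective j := by
  let ε : ℤˣ →* Equiv.Perm (Fin 2) :=
    { toFun := fun s => if s = 1 then 1 else swap 0 1
      map_one' := by simp
      map_mul' := fun a b => by
        rcases Int.units_eq_one_or a with rfl | rfl <;> rcases Int.units_eq_one_or b with rfl | rfl <;> simp }
  let j : P6 →* Equiv.Perm (Fin 8) :=
    (finSumFinEquiv : Fin 6 ⊕ Fin 2 ≃ Fin 8).permCongrHom.toMonoidHom.comp
      ((Equiv.Perm.sumCongrHom (Fin 6) (Fin 2)).comp ((MonoidHom.id P6).prod (ε.comp Equiv.Perm.sign)))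
  have hA : ∀ x, j x ∈ alternatingGroup (Fin 8) := by
    intro x
    rw [Equiv.Perm.mem_alternatingGroup]
    show Equiv.Perm.sign ((finSumFinEquiv : Fin 6 ⊕ Fin 2 ≃ Fin 8).permCongr (Equiv.sumCongr x (ε (Equiv.Perm.sign x)))) = 1
    rw [Equiv.Perm.sign_permCongr, Equiv.Perm.sign_sumCongr]
    rcases Int.units_eq_one_or (Equiv.Perm.sign x) with h | h <;> simp [ε, h]
  refine ⟨j.codRestrict _ hA, MonoidHom.injective_codRestrict j _ hA |>.2 ?_⟩
  refine (finSumFinEquiv : Fin 6 ⊕ Fin 2 ≃ Fin 8).permCongrHom.injective.comp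
    (Equiv.Perm.sumCongrHom_injective.comp ?_)
  intro a b h
  exact congrArg Prod.fst h

end Cfsg.Agent.Lie.ConstrainedRank
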